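import Cfsg.Agent.Lib.CoreSplit.Main

/-!
The exceptional case reduced to the situation in which only the identity of the two point stabiliser
centralises all the involutions with the given centre.
-/

set_option autoImplicit false

namespace CfsgLib.CoreSplit

open CfsgLib.BenderTrans MulAction Subgroup CfsgLib.Involutions
open scoped Pointwise

universe u

/-- The point stabiliser is the product of the centraliser of the involutions and the two point
stabiliser, when these involutions form with the identity a group of odd prime rank and no nontrivial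
element of the two point stabiliser centralises all of them. -/
def DecompFaithful : Prop :=
  ∀ (G Ω : Type u) [Group G] [Finite G] [MulAction G Ω] [Finite Ω],
    (∀ X : Type u, ∀ _ : Group X, ∀ _ : Finite X, Odd (Nat.card X) → Group.IsSolvable X) →
    OneFix G Ω → (∀ g : G, (∀ x : Ω, g • x = x) → g = 1) → HasFour G → TwoTrans G Ω →
    ∀ c y : Ω, y ≠ c → (∀ s ∈ invAt G c, ∀ t ∈ invAt G c, Commute s t) →
    ∀ q : ℕ, q.Prime → q ≠ 2 → (invAt G c).ncard + 1 = 2 ^ q →
    (∀ d ∈ two G c y, (∀ s ∈ invAt G c, Commute d s) → d = 1) →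
    ∀ g ∈ stabilizer G c, ∃ k ∈ stabilizer G c, (∀ s ∈ invAt G c, Commute k s) ∧
      ∃ e ∈ two G c y, g = k * e

variable {G : Type u} [Group G] {Ω : Type u} [MulAction G Ω]

namespace Setting

variable {c y : Ω} {R Z : Subgroup G} {r : ℕ} (h : Setting c y R Z r) [Finite G] [Finite Ω]
include h

omit [Finite Ω] in
theorem card_Z : Nat.card Z = (invAt G c).ncard := by
  obtain ⟨s, t, hs, -⟩ := h.oneFix.exists_invAt_ne h.four c
  let φ : Z → invAt G c := fun z => ⟨(z : G) * s * (z : G)⁻¹, h.conj_mem_invAt' (h.Z_le z.2).1 hs⟩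
  rw [← Nat.card_coe_set_eq]
  refine Nat.card_eq_of_bijective φ ⟨fun z w e => ?_, fun x => ?_⟩
  · by_contra hne
    have e' : (z : G) * s * (z : G)⁻¹ = (w : G) * s * (w : G)⁻¹ := congrArg Subtype.val e
    have hc : Commute ((w : G)⁻¹ * z) s := by
      show (w : G)⁻¹ * z * s = s * ((w : G)⁻¹ * z)
      calc (w : G)⁻¹ * z * s = (w : G)⁻¹ * ((z : G) * s * (z : G)⁻¹) * z := by group
        _ = _ := by rw [e']; group
    exact absurd (h.eq_one_of_commute (mul_mem (inv_mem w.2) z.2) (fun e1 => hne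
      (Subtype.ext (inv_mul_eq_one.1 e1).symm)) (Or.inr hs) hc) (fun e1 => by simpa [e1] using hs.1)
  · obtain ⟨z, hz, hzs⟩ := h.exists_conj hs x.2
    exact ⟨⟨z, hz⟩, Subtype.ext hzs⟩

omit [Finite Ω] in
theorem Z_le_of_full {M : Subgroup G} (hM : Conf c y Z M) (hE : ∀ s ∈ invAt G c, s ∈ M) : Z ≤ M := by
  intro z hz
  obtain ⟨s, hs, -⟩ := hM.big
  have hsz := h.conj_mem_invAt' (h.Z_le hz).1 hs
  obtain ⟨v, hv, hvM, hvs⟩ := hM.ztrans s hs (hE s hs) _ hsz (hE _ hsz)
  have hc : Commute (v⁻¹ * z) s := by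
    show v⁻¹ * z * s = s * (v⁻¹ * z)
    calc v⁻¹ * z * s = v⁻¹ * (z * s * z⁻¹) * z := by group
      _ = _ := by rw [← hvs]; group
  by_cases e : v⁻¹ * z = 1
  · exact (inv_mul_eq_one.1 e) ▸ hvM
  · exact absurd (h.eq_one_of_commute (mul_mem (inv_mem hv) hz) e (Or.inr hs) hc)
      (fun e1 => by simpa [e1] using hs.1)

omit [Finite Ω] in
/-- Elements centralising the involutions with centre `c` have order prime to that of `Z`. -/
theorem coprime_of_centralizes {d : G} (hd : d ∈ two G c y)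
    (hds : ∀ s ∈ invAt G c, Commute d s) : (orderOf d).Coprime (Nat.card Z) := by
  refine Nat.coprime_of_dvd fun p hp hpd hpZ => ?_
  have : Fact p.Prime := ⟨hp⟩
  obtain ⟨x, hx⟩ := exists_prime_orderOf_dvd_card' (G := Z) p hpZ
  refine h.not_dvd_centF h.conf_top hp x.2 (mem_top _) ((Subgroup.orderOf_coe x).trans hx) ?_
  exact hpd.trans (Subgroup.orderOf_dvd_natCard _
    (show d ∈ centF c ⊤ from ⟨⟨mem_top d, hd.1⟩, fun s hs => (hds s hs.1).eq.symm⟩))

/-- Swappers centralise the elements of the two point stabiliser centralising the involutions. -/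
theorem swap_commute {s d : G} (hs : s ∈ swaps G c y) (hd : d ∈ two G c y)
    (hds : ∀ t ∈ invAt G c, Commute d t) : Commute s d := by
  have hs2 : s * s = 1 := mul_self_eq_one hs.1
  set d' := s * d * s⁻¹ with hd'
  have hd'2 : d' ∈ two G c y :=
    (Subgroup.mem_normalizer_iff.1 (OneFix.swap_normalizes hs) d).1 hd
  have hcent : ∀ t ∈ invAt G c, Commute d' t := fun t ht => by
    refine h.cent_of_commute h.conf_top hd'2 (mem_top _) ?_ (fun z hz hzM => ?_) ht (mem_top t)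
    · rw [inf_top_eq, show orderOf d' = orderOf d from
        orderOf_injective (MulAut.conj s).toMonoidHom (MulAut.conj s).injective d]
      exact h.coprime_of_centralizes hd hds
    · have hdz : Commute d z⁻¹ := (h.commute_of_cent h.conf_top hd (mem_top d)
        (fun t ht _ => hds t ht) hz (mem_top z)).inv_right
      have hz' : s * z⁻¹ * s⁻¹ = z := by
        have := h.Z_inv s hs _ (inv_mem hz)
        rwa [inv_inv] at this
      have := hdz.map (MulAut.conj s).toMonoidHom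
      simp only [MulEquiv.coe_toMonoidHom, MulAut.conj_apply] at this
      rwa [hz'] at this
  set a := d⁻¹ * d' with ha
  have hinv : s * a * s⁻¹ = a⁻¹ := by
    rw [ha, hd']
    calc s * (d⁻¹ * (s * d * s⁻¹)) * s⁻¹ = (s * d * s⁻¹)⁻¹ * ((s * s) * d * (s * s)⁻¹) := by group
      _ = _ := by rw [hs2]; group
  have ha2 : a ∈ two G c y := mul_mem (inv_mem hd) hd'2
  -- the swappers are the translates by `Z`
  let φ : Z → swaps G c y := fun z => ⟨s * z, by
    refine ⟨orderOf_eq_two_iff_mul.2 ⟨fun e => ?_, ?_⟩, by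
      rw [mul_smul, mem_stabilizer_iff.1 (h.Z_le z.2).1, hs.2]⟩
    · have : s ∈ Z := by rw [eq_inv_of_mul_eq_one_left e]; exact inv_mem z.2
      exact h.ne (by rw [← hs.2]; exact mem_stabilizer_iff.1 (h.Z_le this).1)
    · have h1 : s * (z : G) * s = (z : G)⁻¹ := by
        have := h.Z_inv s hs z z.2
        rwa [inv_eq_self_of_involution hs.1] at this
      calc s * (z : G) * (s * z) = (s * (z : G) * s) * z := by group
        _ = 1 := by rw [h1, inv_mul_cancel]⟩
  have hinj : Function.Injective φ := fun z w e =>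
    Subtype.ext (mul_left_cancel (congrArg Subtype.val e))
  have hbij : Function.Bijective φ := hinj.bijective_of_nat_card_le (by
    rw [Nat.card_coe_set_eq, h.oneFix.ncard_swaps (Ne.symm h.ne), h.card_Z,
      h.oneFix.ncard_invAt_eq c y])
  have hsa : s * a ∈ swaps G c y := by
    refine ⟨orderOf_eq_two_iff_mul.2 ⟨fun e => ?_, ?_⟩, by
      rw [mul_smul, (mem_two_iff.1 ha2).1, hs.2]⟩
    · have : s ∈ stabilizer G c := by
        rw [eq_inv_of_mul_eq_one_left e]; exact (stabilizer G c).inv_mem ha2.1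
      exact h.ne (by rw [← hs.2]; exact mem_stabilizer_iff.1 this)
    · rw [inv_eq_self_of_involution hs.1] at hinv
      calc s * a * (s * a) = (s * a * s) * a := by group
        _ = 1 := by rw [hinv, inv_mul_cancel]
  obtain ⟨z, hz⟩ := hbij.2 ⟨s * a, hsa⟩
  have hza : (z : G) = a := mul_left_cancel (congrArg Subtype.val hz)
  obtain ⟨t, -, ht, -⟩ := h.oneFix.exists_invAt_ne h.four c
  have hz1 : (z : G) = 1 := by
    by_contra hne
    refine absurd (h.eq_one_of_commute z.2 hne (Or.inr ht) ?_) (fun e1 => by simpa [e1] using ht.1)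
    rw [hza, ha]
    exact ((hds t ht).inv_left).mul_left (hcent t ht)
  rw [hza, ha, inv_mul_eq_one, hd'] at hz1
  exact mul_inv_eq_iff_eq_mul.1 hz1.symm

variable {M : Subgroup G}

/-- The centraliser of an element centralising the involutions, inside a configuration containing
them, is one again, smaller unless the element fixes all centres, and has all its fixed centres. -/
theorem cent_step (hM : Conf c y Z M) (hE : ∀ s ∈ invAt G c, s ∈ M) {w : G} (hw : w ∈ two G c y)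
    (hws : ∀ s ∈ invAt G c, Commute w s) :
    Conf c y Z (M ⊓ Subgroup.centralizer {w}) ∧
      (∀ s ∈ invAt G c, s ∈ M ⊓ Subgroup.centralizer {w}) ∧
      (∀ a ∈ centres Ω M, a ≠ c → w • a = a → a ∈ centres Ω (M ⊓ Subgroup.centralizer {w})) := by
  set M' := M ⊓ Subgroup.centralizer {w} with hM'
  have hmem : ∀ g : G, g ∈ M → Commute w g → g ∈ M' := fun g hg hc =>
    ⟨hg, Subgroup.mem_centralizer_singleton_iff.2 hc.eq.symm⟩
  have hEM' : ∀ s ∈ invAt G c, s ∈ M' := fun s hs => hmem s (hE s hs) (hws s hs)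
  obtain ⟨s, hs, -, t, ht, -, hst⟩ := hM.big
  have hcen : ∀ a ∈ centres Ω M, a ≠ c → w • a = a → a ∈ centres Ω M' := by
    intro a ha hac hwa
    obtain ⟨g, hgM, hgc, hgy⟩ := hM.trans a ha hac
    have hgT : g ∈ stabilizer G c := hgc
    have hgiy : g⁻¹ • a = y := inv_smul_eq_iff.2 hgy.symm
    have hw2 : g⁻¹ * w * g ∈ two G c y := mem_two_iff.2
      ⟨by rw [mul_smul, mul_smul, hgc, (mem_two_iff.1 hw).1, inv_smul_eq_iff, hgc],
        by rw [mul_smul, mul_smul, hgy, hwa, hgiy]⟩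
    have hws' : ∀ u ∈ invAt G c, Commute (g⁻¹ * w * g) u := fun u hu => by
      have h1 := hws _ (h.conj_mem_invAt' hgT hu)
      show g⁻¹ * w * g * u = u * (g⁻¹ * w * g)
      calc g⁻¹ * w * g * u = g⁻¹ * (w * (g * u * g⁻¹)) * g := by group
        _ = g⁻¹ * ((g * u * g⁻¹) * w) * g := by rw [h1.eq]
        _ = _ := by group
    obtain ⟨ρ, hρM, hρ⟩ := h.oneFix.exists_swap_centres (mem_centres (hE s hs) hs) hM.mem_y
      (Ne.symm h.ne)
    have hρ' : g * ρ * g⁻¹ ∈ swaps G c a := by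
      have := conj_mem_swaps (g := g) hρ
      rwa [hgc, hgy] at this
    have hc : Commute w (g * ρ * g⁻¹) := by
      have h1 := h.swap_commute hρ hw2 hws'
      show w * (g * ρ * g⁻¹) = g * ρ * g⁻¹ * w
      calc w * (g * ρ * g⁻¹) = g * ((g⁻¹ * w * g) * ρ) * g⁻¹ := by group
        _ = g * (ρ * (g⁻¹ * w * g)) * g⁻¹ := by rw [h1.eq]
        _ = _ := by group
    have := smul_mem_centres (hmem _ (M.mul_mem (M.mul_mem hgM hρM) (M.inv_mem hgM)) hc)
      (mem_centres (hEM' s hs) hs)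
    rwa [hρ'.2] at this
  have hc : c ∈ centres Ω M' := mem_centres (hEM' s hs) hs
  have hy : y ∈ centres Ω M' := hcen y hM.mem_y h.ne (mem_two_iff.1 hw).2
  refine ⟨⟨hy, ⟨s, hs, hEM' s hs, t, ht, hEM' t ht, hst⟩, fun a ha _ b hb _ => ?_,
    fun a ha hac => ?_⟩, hEM', hcen⟩
  · obtain ⟨v, hv, hvM, hvs⟩ := hM.ztrans a ha (hE a ha) b hb (hE b hb)
    exact ⟨v, hv, hmem v hvM (h.commute_of_cent h.conf_top hw (mem_top w) (fun u hu _ => hws u hu)
      hv (mem_top v)), hvs⟩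
  · have hMu : Multi Ω M' := ⟨c, hc, y, hy, Ne.symm h.ne⟩
    have hC := concl_of_card_le _ (Sect Ω M') (centres Ω M') le_rfl h.hodd
      (h.oneFix.oneFix_sect hMu) (hfaith_sect M')
      (h.oneFix.hasFour_sect hMu (hEM' s hs) (hEM' t ht) hs.1 ht.1 hst (h.comm s hs t ht))
    obtain ⟨σ, hσc, hσy⟩ := hC.trans2 ⟨c, hc⟩ ⟨y, hy⟩ ⟨a, ha⟩ (fun e => h.ne (congrArg Subtype.val e))
      (fun e => hac (congrArg Subtype.val e))
    obtain ⟨g, rfl⟩ := sect_surjective M' σ
    exact ⟨g, g.2, congrArg Subtype.val hσc, congrArg Subtype.val hσy⟩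

omit [Finite Ω] in
theorem fpf_of_centralizes {d : G} (hd : d ∈ two G c y) (hd1 : d ≠ 1)
    (hds : ∀ s ∈ invAt G c, Commute d s) : ∀ a ∈ R, Commute d a → a = 1 := by
  intro a ha hda
  have hne : orderOf d ≠ 1 := fun e => hd1 (orderOf_eq_one_iff.1 e)
  obtain ⟨q, hq, hqd⟩ := Nat.exists_prime_and_dvd hne
  set n := orderOf d / q with hn
  have ho : orderOf (d ^ n) = q := by
    have hdd : n ∣ orderOf d := Nat.div_dvd_of_dvd hqd
    rw [orderOf_pow_of_dvd (Nat.div_pos (Nat.le_of_dvd (orderOf_pos d) hqd) hq.pos).ne' hdd]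
    exact Nat.div_div_self hqd (orderOf_pos d).ne'
  obtain ⟨s, t, hs, ht, hst, -⟩ := h.oneFix.exists_invAt_ne h.four c
  exact h.fpf_pair _ (pow_mem hd n) (ho.symm ▸ hq) s hs t ht hst ((hds s hs).pow_left n)
    ((hds t ht).pow_left n) a ha (hda.pow_left n)

/-- The primes of the orders of elements centralising the involutions do not divide the order of
`C(R)` in the point stabiliser. -/
theorem not_dvd_Q {d : G} {q : ℕ} (hq : q.Prime) (hd : d ∈ two G c y) (hdo : orderOf d = q)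
    (hds : ∀ s ∈ invAt G c, Commute d s) : ¬ q ∣ Nat.card (Q c R) := by
  intro hdvd
  have : Fact q.Prime := ⟨hq⟩
  have hd1 : d ≠ 1 := fun e => hq.ne_one (by rw [← hdo, e, orderOf_one])
  have hq2 : q ≠ 2 := fun e => by
    have hodd := h.odd_two.of_dvd_nat (Subgroup.orderOf_dvd_natCard _ hd)
    rw [hdo, e] at hodd
    exact absurd hodd (by decide)
  haveI := h.isNilpotent_Q
  obtain ⟨P⟩ := (inferInstance : Nonempty (Sylow q (Q c R)))
  have hPn : (P : Subgroup (Q c R)).Normal :=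
    ((Group.isNilpotent_of_finite_tfae (G := Q c R)).out 0 3 rfl rfl).1 inferInstance q inferInstance P
  have hPc := P.characteristic_of_normal hPn
  set P₁ : Subgroup G := (P : Subgroup (Q c R)).map (Q c R).subtype with hP₁
  have hP₁Q : P₁ ≤ Q c R := Subgroup.map_subtype_le _
  have hP₁n : stabilizer G c ≤ Subgroup.normalizer (P₁ : Set G) := by
    refine Subgroup.le_normalizer_iff.2 fun g hg v hv => ?_
    obtain ⟨v', hv', rfl⟩ := hv
    let φ : ↥(Q c R) ≃* ↥(Q c R) := (Q c R).normalizerMonoidHom ⟨g, h.le_normalizer_Q hg⟩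
    exact ⟨φ v', (Subgroup.characteristic_iff_map_eq.1 hPc φ) ▸ Subgroup.mem_map_of_mem _ hv', rfl⟩
  have hP₁p : IsPGroup q P₁ := P.isPGroup'.map _
  have hP₁dvd : q ∣ Nat.card P₁ := by
    rw [hP₁, Subgroup.card_map_of_injective (Q c R).subtype_injective, P.card_eq_multiplicity]
    exact dvd_pow_self q (Nat.pos_iff_ne_zero.1 (hq.factorization_pos_of_dvd Nat.card_pos.ne' hdvd))
  -- `d` fixes a nontrivial element
  have hdT : zpowers d ≤ stabilizer G c := zpowers_le.2 hd.1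
  letI : MulAction (zpowers d) P₁ :=
    { smul := fun g v => ⟨(g : G) * v * (g : G)⁻¹,
        (Subgroup.mem_normalizer_iff.1 (hP₁n (hdT g.2)) v).1 v.2⟩
      one_smul := fun v => Subtype.ext (show (1 : G) * v * (1 : G)⁻¹ = v by simp)
      mul_smul := fun g g' v => Subtype.ext (show ((g : G) * g') * v * ((g : G) * g')⁻¹ =
        (g : G) * ((g' : G) * v * (g' : G)⁻¹) * (g : G)⁻¹ by group) }
  have hdp : IsPGroup q (zpowers d) :=
    IsPGroup.of_card (n := 1) (by rw [Nat.card_zpowers, hdo, pow_one])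
  obtain ⟨v, hv, hv1⟩ := hdp.exists_fixed_point_of_prime_dvd_card_of_fixed_point P₁ hP₁dvd
    (a := 1) (fun g => Subtype.ext (show (g : G) * ((1 : P₁) : G) * (g : G)⁻¹ = 1 by simp))
  have hdv : Commute d (v : G) :=
    mul_inv_eq_iff_eq_mul.1 (congrArg Subtype.val (hv ⟨d, mem_zpowers d⟩))
  obtain ⟨hM', hEM', -⟩ := h.cent_step h.conf_top (fun s _ => mem_top s) hd hds
  set M' := (⊤ : Subgroup G) ⊓ Subgroup.centralizer {d} with hM'def
  have hne : M' ≠ ⊤ := fun e => by
    have hall : ∀ g : G, Commute d g := fun g =>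
      (Subgroup.mem_centralizer_singleton_iff.1 (e ▸ mem_top g : g ∈ M').2).symm
    refine hd1 (h.faith d fun x => ?_)
    obtain ⟨g, rfl⟩ := h.oneFix.trans c x
    rw [smul_smul, (hall g).eq, mul_smul, (mem_two_iff.1 hd).1]
  obtain ⟨s, hs, -, t, ht, -, hst⟩ := hM'.big
  set N := P₁ ⊓ M' with hN
  have hNT : N ≤ M' ⊓ stabilizer G c := le_inf inf_le_right ((inf_le_left.trans hP₁Q).trans inf_le_left)
  have hNn : M' ⊓ stabilizer G c ≤ Subgroup.normalizer (N : Set G) :=
    (le_inf (inf_le_right.trans hP₁n) (inf_le_left.trans Subgroup.le_normalizer)).trans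
      Subgroup.inf_normalizer_le_normalizer_inf
  have hNodd : Odd (Nat.card N) := by
    obtain ⟨n, hn⟩ := IsPGroup.iff_card.1 (hP₁p.to_le (inf_le_left : N ≤ P₁))
    rw [hn]
    exact (hq.odd_of_ne_two hq2).pow
  have hfix := h.sect_core M' hne ⟨c, mem_centres (hEM' s hs) hs, y, hM'.mem_y, Ne.symm h.ne⟩
    ⟨s, hEM' s hs, t, hEM' t ht, hs.1, ht.1, hst, h.comm s hs t ht⟩ c
    (mem_centres (hEM' s hs) hs) N hNT hNn hNodd
  have hvN : (v : G) ∈ N := ⟨v.2, mem_top _, Subgroup.mem_centralizer_singleton_iff.2 hdv.eq.symm⟩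
  have := h.two_inf_Q (mem_two_iff.2 ⟨mem_stabilizer_iff.1 (hP₁Q v.2).1, hfix _ hvN y hM'.mem_y⟩)
    (hP₁Q v.2)
  exact hv1 (Subtype.ext this.symm)

/-- The base of the induction: elements centralising the involutions fix all centres. -/
theorem decomp_base (hB : DecompFaithful.{u}) {q : ℕ} (hq : q.Prime) (hq2 : q ≠ 2)
    (hcard : (invAt G c).ncard + 1 = 2 ^ q) (hM : Conf c y Z M) (hE : ∀ s ∈ invAt G c, s ∈ M)
    (hker : ∀ d ∈ two G c y, d ∈ M → (∀ s ∈ invAt G c, Commute d s) →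
      ∀ a ∈ centres Ω M, d • a = a)
    {g : G} (hgM : g ∈ M) (hgc : g ∈ stabilizer G c) :
    ∃ k ∈ centF c M, ∃ e, e ∈ two G c y ∧ e ∈ M ∧ g = k * e := by
  obtain ⟨s, hs, -, t, ht, -, hst⟩ := hM.big
  have hc : c ∈ centres Ω M := mem_centres (hE s hs) hs
  have hMu : Multi Ω M := ⟨c, hc, y, hM.mem_y, Ne.symm h.ne⟩
  have hS := h.oneFix.oneFix_sect hMu
  have hF := h.oneFix.hasFour_sect hMu (hE s hs) (hE t ht) hs.1 ht.1 hst (h.comm s hs t ht)
  have hC := concl_of_card_le _ (Sect Ω M) (centres Ω M) le_rfl h.hodd hS (hfaith_sect M) hF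
  set c' : centres Ω M := ⟨c, hc⟩
  set y' : centres Ω M := ⟨y, hM.mem_y⟩
  -- the involutions at the two places correspond
  have hker1 : ∀ a b : G, a ∈ invAt G c → b ∈ invAt G c → ∀ (ha : a ∈ M) (hb : b ∈ M),
      sect Ω M ⟨a, ha⟩ = sect Ω M ⟨b, hb⟩ → a = b := by
    intro a b ha' hb' ha hb e
    have hmem : (⟨a, ha⟩ : M) * ⟨b, hb⟩⁻¹ ∈ (sect Ω M).ker := by
      rw [MonoidHom.mem_ker, map_mul, map_inv, e, mul_inv_cancel]
    have hodd := (h.oneFix.odd_card_ker_sect hMu).of_dvd_nat (Subgroup.orderOf_dvd_natCard _ hmem)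
    rw [← Subgroup.orderOf_coe] at hodd
    change Odd (orderOf (a * b⁻¹)) at hodd
    have h2 : orderOf (a * b⁻¹) ∣ 2 := by
      refine orderOf_dvd_of_pow_eq_one ?_
      rw [((h.comm a ha' b hb').inv_right).mul_pow, inv_pow, ← ha'.1, pow_orderOf_eq_one, ha'.1,
        ← hb'.1, pow_orderOf_eq_one, inv_one, one_mul]
    rcases (Nat.dvd_prime Nat.prime_two).1 h2 with h1 | h1
    · exact mul_inv_eq_one.1 (orderOf_eq_one_iff.1 h1)
    · rw [h1] at hodd; exact absurd hodd (by decide)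
  have hinv : ∀ σ : Sect Ω M, σ ∈ invAt (Sect Ω M) c' ↔
      ∃ a, ∃ (ha : a ∈ invAt G c), sect Ω M ⟨a, hE a ha⟩ = σ := by
    intro σ
    constructor
    · rintro ⟨hσ, hσc⟩
      obtain ⟨a, ha, rfl⟩ := h.oneFix.exists_lift hMu hσ
      exact ⟨a, ⟨by rw [Subgroup.orderOf_coe, ha], congrArg Subtype.val hσc⟩, rfl⟩
    · rintro ⟨a, ha, rfl⟩
      exact h.oneFix.sect_mem_invAt hMu (hE a ha) ha
  have hcard' : (invAt (Sect Ω M) c').ncard + 1 = 2 ^ q := by
    rw [← hcard, ← Nat.card_coe_set_eq, ← Nat.card_coe_set_eq]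
    congr 1
    refine (Nat.card_eq_of_bijective (fun a : invAt G c =>
      (⟨sect Ω M ⟨a, hE a a.2⟩, (hinv _).2 ⟨a, a.2, rfl⟩⟩ : invAt (Sect Ω M) c'))
      ⟨fun a b e => Subtype.ext (hker1 a b a.2 b.2 _ _ (congrArg Subtype.val e)), fun σ => ?_⟩).symm
    obtain ⟨a, ha, e⟩ := (hinv σ).1 σ.2
    exact ⟨⟨a, ha⟩, Subtype.ext e⟩
  have hcomm' : ∀ σ ∈ invAt (Sect Ω M) c', ∀ τ ∈ invAt (Sect Ω M) c', Commute σ τ := by
    intro σ hσ τ hτ
    obtain ⟨a, ha, rfl⟩ := (hinv σ).1 hσ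
    obtain ⟨b, hb, rfl⟩ := (hinv τ).1 hτ
    exact (show Commute (⟨a, hE a ha⟩ : M) ⟨b, hE b hb⟩ from Subtype.ext (h.comm a ha b hb)).map _
  -- elements centralising the images centralise the involutions
  have hlift : ∀ v : M, (v : G) • c = c → (∀ σ ∈ invAt (Sect Ω M) c', Commute (sect Ω M v) σ) →
      ∀ a ∈ invAt G c, Commute (v : G) a := by
    intro v hvc hv a ha
    have hva : (v : G) * a * (v : G)⁻¹ ∈ invAt G c :=
      h.conj_mem_invAt' (mem_stabilizer_iff.2 hvc) ha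
    have := hker1 _ a hva ha (hE _ hva) (hE a ha) (by
      have h1 := hv _ ((hinv _).2 ⟨a, ha, rfl⟩)
      rw [show (⟨(v : G) * a * (v : G)⁻¹, hE _ hva⟩ : M) = v * ⟨a, hE a ha⟩ * v⁻¹ from rfl, map_mul,
        map_mul, map_inv, h1.eq, mul_inv_cancel_right])
    exact mul_inv_eq_iff_eq_mul.1 this
  have hC0 : ∀ σ ∈ two (Sect Ω M) c' y', (∀ τ ∈ invAt (Sect Ω M) c', Commute σ τ) → σ = 1 := by
    intro σ hσ hcomm
    obtain ⟨v, rfl⟩ := sect_surjective M σ
    have hvc : (v : G) • c = c := congrArg Subtype.val (mem_two_iff.1 hσ).1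
    have hvy : (v : G) • y = y := congrArg Subtype.val (mem_two_iff.1 hσ).2
    exact sect_eq_one_iff.2 (hker _ (mem_two_iff.2 ⟨hvc, hvy⟩) v.2 (hlift v hvc hcomm))
  obtain ⟨κ, hκ, hκc, ε, hε, e⟩ := hB (Sect Ω M) (centres Ω M) h.hodd hS (hfaith_sect M) hF
    hC.trans2 c' y' (fun e => h.ne (congrArg Subtype.val e)) hcomm' q hq hq2 hcard' hC0
    (sect Ω M ⟨g, hgM⟩) (Subtype.ext (mem_stabilizer_iff.1 hgc))
  obtain ⟨k, rfl⟩ := sect_surjective M κ
  obtain ⟨v, rfl⟩ := sect_surjective M ε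
  have hkc : (k : G) • c = c := congrArg Subtype.val (mem_stabilizer_iff.1 hκ)
  have hn : (k * v)⁻¹ * ⟨g, hgM⟩ ∈ (sect Ω M).ker := by
    rw [MonoidHom.mem_ker, map_mul, map_inv, map_mul, ← e, inv_mul_cancel]
  have hn1 := sect_eq_one_iff.1 (MonoidHom.mem_ker.1 hn)
  have hv2 : (v : G) ∈ two G c y := mem_two_iff.2
    ⟨congrArg Subtype.val (mem_two_iff.1 hε).1, congrArg Subtype.val (mem_two_iff.1 hε).2⟩
  set n : G := (((k * v)⁻¹ * ⟨g, hgM⟩ : M) : G) with hndef
  refine ⟨k, ⟨⟨k.2, hkc⟩, fun a ha => (hlift k hkc hκc a ha.1).eq.symm⟩, (v : G) * n,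
    mul_mem hv2 (mem_two_iff.2 ⟨hn1 c hc, hn1 y hM.mem_y⟩), M.mul_mem v.2 (SetLike.coe_mem _), ?_⟩
  rw [hndef]
  show g = (k : G) * ((v : G) * (((k : G) * v)⁻¹ * g))
  group

/-- The reduction: in the exceptional case the point stabiliser is the product of the centraliser
of the involutions and the two point stabiliser. -/
theorem decomp_aux (hB : DecompFaithful.{u}) {q : ℕ} (hq : q.Prime) (hq2 : q ≠ 2)
    (hcard : (invAt G c).ncard + 1 = 2 ^ q) : ∀ (n : ℕ) (M : Subgroup G), Nat.card M ≤ n →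
    Conf c y Z M → (∀ s ∈ invAt G c, s ∈ M) → ∀ g ∈ M, g ∈ stabilizer G c →
      ∃ k ∈ centF c M, ∃ e, e ∈ two G c y ∧ e ∈ M ∧ g = k * e := by
  intro n
  induction n with
  | zero => exact fun M hn => absurd hn (Nat.not_le.2 Nat.card_pos)
  | succ n ih =>
    intro M hn hM hE g hgM hgc
    set C : Subgroup G := centF c M ⊓ two G c y with hC
    by_cases hker : C ≤ ((sect Ω M).ker).map M.subtype
    · refine h.decomp_base hB hq hq2 hcard hM hE (fun d hd hdM hds => ?_) hgM hgc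
      obtain ⟨d', hd', rfl⟩ := hker (show d ∈ C from
        ⟨⟨⟨hdM, hd.1⟩, fun s hs => (hds s hs.1).eq.symm⟩, hd⟩)
      exact sect_eq_one_iff.1 (MonoidHom.mem_ker.1 hd')
    obtain ⟨l, hl, Y, hY⟩ : ∃ l : ℕ, l.Prime ∧ ∃ Y : Sylow l C,
        ¬ (Y : Subgroup C).map C.subtype ≤ ((sect Ω M).ker).map M.subtype := by
      by_contra hcon
      push Not at hcon
      exact hker (Coprime.le_of_forall_sylow_le fun p hp S => hcon p hp S)
    have : Fact l.Prime := ⟨hl⟩
    set Y₁ : Subgroup G := (Y : Subgroup C).map C.subtype with hY₁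
    have hY₁C : Y₁ ≤ C := Subgroup.map_subtype_le _
    have hcentC : ∀ d ∈ C, ∀ s ∈ invAt G c, Commute d s :=
      fun d hd s hs => (hd.1.2 s ⟨hs, hE s hs⟩).symm
    have hY₁p : IsPGroup l Y₁ := Y.isPGroup'.map _
    have hcyc := h.isCyclic_of_fpf (hY₁C.trans inf_le_right)
      (fun d hd hd1 => h.fpf_of_centralizes (hY₁C hd).2 hd1 (hcentC d (hY₁C hd))) hY₁p
    obtain ⟨⟨w, hw⟩, hgen⟩ := hcyc.exists_generator
    have hwC := hY₁C hw
    have hwM : w ∈ M := hwC.1.1.1
    have hgen' : Y₁ = zpowers w := by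
      refine le_antisymm (fun v hv => ?_) (zpowers_le.2 hw)
      obtain ⟨i, hi⟩ := mem_zpowers_iff.1 (hgen ⟨v, hv⟩)
      exact ⟨i, congrArg Subtype.val hi⟩
    have hwmove : ∃ a ∈ centres Ω M, w • a ≠ a := by
      by_contra hcon
      push Not at hcon
      refine hY ?_
      rw [hgen', zpowers_le]
      exact ⟨⟨w, hwM⟩, MonoidHom.mem_ker.2 (sect_eq_one_iff.2 hcon), rfl⟩
    obtain ⟨hM', hEM', hcen⟩ := h.cent_step hM hE hwC.2 (hcentC w hwC)
    set M' := M ⊓ Subgroup.centralizer {w} with hM'def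
    have hlt : Nat.card M' < Nat.card M := by
      refine Set.ncard_lt_ncard ⟨inf_le_left, fun hle => ?_⟩ (Set.toFinite _)
      obtain ⟨a, ha, hwa⟩ := hwmove
      by_cases hac : a = c
      · exact hwa (hac ▸ (mem_two_iff.1 hwC.2).1)
      obtain ⟨v, hvM, -, hvy⟩ := hM.trans a ha hac
      refine hwa ?_
      rw [← hvy, smul_smul, ← Subgroup.mem_centralizer_singleton_iff.1 (hle hvM).2, mul_smul,
        (mem_two_iff.1 hwC.2).2]
    -- the Sylow subgroup is one of the centraliser of the involutions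
    set F : Subgroup G := centF c M with hF
    have hCF : C ≤ F := inf_le_left
    have hlQ : ¬ l ∣ Nat.card (Q c R) := by
      have hY1 : Y₁ ≠ ⊥ := fun e => hY (by rw [e]; exact bot_le)
      obtain ⟨i, hi, hcardY⟩ := (IsPGroup.nontrivial_iff_card hY₁p).1
        ((Subgroup.nontrivial_iff_ne_bot _).2 hY1)
      obtain ⟨d, hd⟩ := exists_prime_orderOf_dvd_card' (G := Y₁) l (hcardY ▸ dvd_pow_self l hi.ne')
      exact h.not_dvd_Q hl (hY₁C d.2).2 ((Subgroup.orderOf_coe d).trans hd) (hcentC _ (hY₁C d.2))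
    have hrel : ¬ l ∣ C.relIndex F := by
      intro hdvd
      apply hlQ
      refine hdvd.trans ?_
      refine dvd_trans ?_ (Subgroup.card_dvd_of_le (inf_le_left : Q c R ⊓ M ≤ Q c R))
      have hsplit : ∀ v ∈ F, ∃ u, u ∈ Q c R ⊓ M ∧ u ∈ F ∧ u⁻¹ * v ∈ C := fun v hv => by
        obtain ⟨u, huM, huQ, e, heM, he, hes, rfl⟩ := h.centF_split hM hv
        refine ⟨u, ⟨huQ, huM⟩, ⟨⟨huM, huQ.1⟩, fun s hs =>
          (h.Q_centralizes_E huQ (h.mem_E.2 (Or.inr hs.1))).eq.symm⟩, ?_⟩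
        rw [inv_mul_cancel_left]
        exact ⟨⟨⟨heM, he.1⟩, fun s hs => (hes s hs.1 hs.2).eq.symm⟩, he⟩
      have hQF : Q c R ⊓ M ≤ F := fun u hu =>
        ⟨⟨hu.2, hu.1.1⟩, fun s hs => (h.Q_centralizes_E hu.1 (h.mem_E.2 (Or.inr hs.1))).eq.symm⟩
      let ψ : (Q c R ⊓ M : Subgroup G) → F ⧸ C.subgroupOf F := fun u => QuotientGroup.mk ⟨u, hQF u.2⟩
      have hψ : Function.Bijective ψ := by
        refine ⟨fun u v e => ?_, fun x => ?_⟩
        · have h1 : (u : G)⁻¹ * v ∈ C := Subgroup.mem_subgroupOf.1 (QuotientGroup.eq.1 e)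
          exact Subtype.ext (inv_mul_eq_one.1
            (h.two_inf_Q h1.2 (mul_mem ((Q c R).inv_mem u.2.1) v.2.1)))
        · obtain ⟨v, rfl⟩ := QuotientGroup.mk_surjective x
          obtain ⟨u, hu, huF, huv⟩ := hsplit v v.2
          exact ⟨⟨u, hu⟩, QuotientGroup.eq.2 (Subgroup.mem_subgroupOf.2 huv)⟩
      rw [Nat.card_eq_of_bijective ψ hψ]
      exact dvd_refl _
    have hY₁F : Y₁ ≤ F := hY₁C.trans hCF
    have hY₁card : Nat.card Y₁ = l ^ (Nat.card F).factorization l := by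
      rw [hY₁, Subgroup.card_map_of_injective C.subtype_injective, Y.card_eq_multiplicity,
        ← Nat.card_congr (Subgroup.subgroupOfEquivOfLe hCF).toEquiv,
        ← Subgroup.index_mul_card (C.subgroupOf F),
        Nat.factorization_mul Subgroup.index_ne_zero_of_finite Nat.card_pos.ne', Finsupp.add_apply,
        Nat.factorization_eq_zero_of_not_dvd
          (show ¬ l ∣ (C.subgroupOf F).index from hrel), zero_add]
    -- Frattini
    set Y' : Subgroup G := M ⊓ stabilizer G c with hY'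
    have hY'F : ∀ v ∈ Y', ∀ f ∈ F, v * f * v⁻¹ ∈ F := fun v hv f hf => by
      refine ⟨Y'.mul_mem (Y'.mul_mem hv hf.1) (Y'.inv_mem hv), fun s hs => ?_⟩
      have hs' : v⁻¹ * s * v ∈ {s | s ∈ invAt G c ∧ s ∈ M} :=
        ⟨by simpa using h.conj_mem_invAt' (inv_mem hv.2) hs.1,
          mul_mem (mul_mem (inv_mem hv.1) hs.2) hv.1⟩
      calc s * (v * f * v⁻¹) = v * ((v⁻¹ * s * v) * f) * v⁻¹ := by group
        _ = v * (f * (v⁻¹ * s * v)) * v⁻¹ := by rw [hf.2 _ hs']
        _ = _ := by group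
    let φ : F ≃* F :=
      { toFun := fun f => ⟨g * f * g⁻¹, hY'F g ⟨hgM, hgc⟩ f f.2⟩
        invFun := fun f => ⟨g⁻¹ * f * g, by
          simpa using hY'F g⁻¹ (Y'.inv_mem ⟨hgM, hgc⟩) f f.2⟩
        left_inv := fun f => Subtype.ext (by simp [mul_assoc])
        right_inv := fun f => Subtype.ext (by simp [mul_assoc])
        map_mul' := fun a b => Subtype.ext (by simp [mul_assoc]) }
    let P : Sylow l F := Sylow.ofCard (Y₁.subgroupOf F)
      ((Nat.card_congr (Subgroup.subgroupOfEquivOfLe hY₁F).toEquiv).trans hY₁card)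
    obtain ⟨f, hf⟩ := MulAction.exists_smul_eq F (P.mapSurjective (f := φ.toMonoidHom) φ.surjective) P
    have hmem : (f : G) * (g * w * g⁻¹) * (f : G)⁻¹ ∈ Y₁ := by
      have h1 : f * φ ⟨w, hY₁F hw⟩ * f⁻¹ ∈ (P : Subgroup F) := by
        rw [← hf, Sylow.coe_subgroup_smul, Subgroup.mem_pointwise_smul_iff_inv_smul_mem]
        refine ⟨⟨w, hY₁F hw⟩, Subgroup.mem_subgroupOf.2 hw, ?_⟩
        show φ _ = _
        simp [MulAut.smul_def, mul_assoc]
      exact Subgroup.mem_subgroupOf.1 h1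
    set v : G := (f : G) * g with hv
    have hvY : v ∈ Y' := Y'.mul_mem (f.2.1) ⟨hgM, hgc⟩
    have hconj : v * w * v⁻¹ ∈ zpowers w := by
      rw [← hgen', hv, show (f : G) * g * w * ((f : G) * g)⁻¹ = (f : G) * (g * w * g⁻¹) * (f : G)⁻¹ by
        group]
      exact hmem
    have hinv' : v⁻¹ * w * v ∈ zpowers w := by
      have hle : (zpowers w).map (MulAut.conj v).toMonoidHom = zpowers w := by
        refine Subgroup.eq_of_le_of_card_ge ?_ ?_
        · rw [MonoidHom.map_zpowers, zpowers_le]; exact hconj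
        · rw [Subgroup.card_map_of_injective (MulAut.conj v).injective]
      obtain ⟨b, hb, hbv⟩ : w ∈ (zpowers w).map (MulAut.conj v).toMonoidHom := by
        rw [hle]; exact mem_zpowers w
      change v * b * v⁻¹ = w at hbv
      have e : v⁻¹ * w * v = b := by rw [← hbv]; group
      rw [e]
      exact hb
    have hfix : w • (v • y) = v • y := by
      have h1 : (v⁻¹ * w * v) • y = y := (mem_two_iff.1 (zpowers_le.2 hwC.2 hinv')).2
      rw [mul_smul, mul_smul, inv_smul_eq_iff] at h1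
      exact h1
    have hvy : v • y ≠ c := fun e => h.ne (smul_left_cancel v (e.trans hvY.2.symm))
    obtain ⟨g', hg'M, hg'c, hg'y⟩ := hM'.trans _
      (hcen _ (smul_mem_centres hvY.1 hM.mem_y) hvy hfix) hvy
    obtain ⟨k', hk', e', he', he'M, hge⟩ := ih M' (by omega) hM' hEM' g' hg'M hg'c
    have hd : g'⁻¹ * v ∈ two G c y := mem_two_iff.2
      ⟨mem_stabilizer_iff.1 (mul_mem ((stabilizer G c).inv_mem hg'c) hvY.2),
        by rw [mul_smul, inv_smul_eq_iff, hg'y]⟩
    refine ⟨(f : G)⁻¹ * k', F.mul_mem (F.inv_mem f.2) ⟨⟨hk'.1.1.1, hk'.1.2⟩,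
      fun s hs => hk'.2 s ⟨hs.1, hEM' s hs.1⟩⟩, e' * (g'⁻¹ * v), mul_mem he' hd,
      M.mul_mem he'M.1 (M.mul_mem (M.inv_mem hg'M.1) hvY.1), ?_⟩
    rw [hge, hv]
    group

/-- The exceptional case from the faithful one. -/
theorem exceptional_decomp (hB : DecompFaithful.{u}) {q : ℕ} {d : G}
    (hd : Exceptional c y Z q d) : ∀ g ∈ stabilizer G c,
      ∃ k ∈ stabilizer G c, (∀ s ∈ invAt G c, Commute k s) ∧ ∃ e ∈ two G c y, g = k * e := by
  obtain ⟨hq, hq2, -, -, -, -, hcard⟩ := hd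
  intro g hg
  obtain ⟨k, hk, e, he, -, hge⟩ := h.decomp_aux hB hq hq2 hcard _ ⊤ le_rfl h.conf_top
    (fun s _ => mem_top s) g (mem_top g) hg
  exact ⟨k, hk.1.2, fun s hs => (hk.2 s ⟨hs, mem_top s⟩).symm, e, he, hge⟩

/-- The setting is contradictory, once the faithful exceptional case is known and the regular
normal subgroup of a split rank one set-up is known to be a `2`-group. -/
theorem false_of_decompFaithful (hB : DecompFaithful.{u})
    (h2 : ∀ t : G, Cfsg.IsRankOneSetup G Ω c t (Q c R) → IsPGroup 2 (Q c R)) : False :=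
  h.false_of_isPGroup_two (fun _ _ hd => h.exceptional_decomp hB hd) h2

end Setting

end CfsgLib.CoreSplit
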