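import Cfsg.Agent.Lib.CoreSplit.Final
import Cfsg.Agent.Lib.BenderQ.Singer

/-!
The semiregular setting is contradictory.
-/

set_option autoImplicit false

namespace CfsgLib.CoreSplit

open CfsgLib.BenderTrans MulAction

universe u

theorem decompFaithful : DecompFaithful.{u} := by
  intro G Ω _ _ _ _ hodd h hfaith hfour _ c y hne hcomm q hq hq2 hcard hC0
  exact BenderQ.PrimeCase.decomp
    (⟨hodd, h, hfaith, hfour, hne, hcomm, hq, hq2, hcard, hC0⟩ : BenderQ.PrimeCase G c y q)

theorem Setting.not_setting {G : Type u} [Group G] [Finite G] {Ω : Type u} [MulAction G Ω] [Finite Ω]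
    {c y : Ω} {R Z : Subgroup G} {r : ℕ} : ¬ Setting c y R Z r :=
  fun h => h.contradiction decompFaithful

end CfsgLib.CoreSplit
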