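import Mathlib
import Cfsg.Agent.Lib.OddOrder41.FixedFormula
import Cfsg.Agent.Lib.Structure.Subnormal

/-!
Odd prime power groups of automorphisms of an elementary abelian group of order `2 ^ q`, and the order
of a group acted upon by a Frobenius group.
-/

set_option autoImplicit false

namespace CfsgLib.CoreSplit

open Module
open scoped commutatorElement TensorProduct

/-- Commutators with a fixed left entry multiply when they are central. -/
theorem commutator_pow_left {P : Type*} [Group P] {a b : P}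
    (hc : ⁅a, b⁆ ∈ Subgroup.center P) (n : ℕ) : ⁅a ^ n, b⁆ = ⁅a, b⁆ ^ n := by
  induction n with
  | zero => simp
  | succ n ih =>
    have h1 := (Subgroup.mem_center_iff.1 (pow_mem hc n)) a
    calc ⁅a ^ (n + 1), b⁆ = a * ⁅a ^ n, b⁆ * a⁻¹ * ⁅a, b⁆ := by
          rw [pow_succ']; simp [commutatorElement_def, mul_assoc]
      _ = ⁅a, b⁆ ^ (n + 1) := by rw [ih, h1, mul_inv_cancel_right, pow_succ]

theorem comm_of_finrank_le {k : Type*} [Field k] [IsAlgClosed k] {q : ℕ} [hq : Fact q.Prime]
    (hqk : (q : k) ≠ 0) {V : Type*} [AddCommGroup V] [Module k V] [FiniteDimensional k V]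
    (hdim : finrank k V ≤ q) {P : Type*} [Group P] [Finite P] (hP : IsPGroup q P)
    (ρ : P →* Module.End k V) (hinj : Function.Injective ρ) {v₀ : V} (hv₀ : v₀ ≠ 0)
    (hfix : ∀ g, ρ g v₀ = v₀) (x y : P) : x * y = y * x := by
  by_contra hxy
  set Z := Subgroup.center P with hZ
  have hne : Nontrivial (P ⧸ Z) := by
    rw [QuotientGroup.nontrivial_iff]
    intro hZT
    have : x ∈ Z := hZT.symm ▸ Subgroup.mem_top x
    exact hxy ((Subgroup.mem_center_iff.1 this) y).symm
  haveI := hne
  haveI := (hP.to_quotient Z).center_nontrivial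
  obtain ⟨⟨ā, hā⟩, hā1⟩ := exists_ne (1 : Subgroup.center (P ⧸ Z))
  obtain ⟨a, rfl⟩ := QuotientGroup.mk_surjective ā
  have haZ : a ∉ Z := fun h => hā1 (Subtype.ext ((QuotientGroup.eq_one_iff a).2 h))
  have hcen : ∀ b : P, ⁅a, b⁆ ∈ Z := by
    intro b
    rw [← QuotientGroup.eq_one_iff]
    have h := Subgroup.mem_center_iff.1 hā (b : P ⧸ Z)
    simp only [commutatorElement_def, QuotientGroup.mk_mul, QuotientGroup.mk_inv]
    rw [← h]
    simp
  obtain ⟨b, hb⟩ : ∃ b : P, ⁅a, b⁆ ≠ 1 := by
    by_contra h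
    push Not at h
    exact haZ (Subgroup.mem_center_iff.2 fun b => (commutatorElement_eq_one_iff_mul_comm.1 (h b)).symm)
  obtain ⟨j, hj⟩ := (IsPGroup.iff_orderOf.1 hP) ⁅a, b⁆
  obtain ⟨i, rfl⟩ : ∃ i, j = i + 1 := Nat.exists_eq_succ_of_ne_zero (by
    rintro rfl; exact hb (orderOf_eq_one_iff.1 (by rw [hj, pow_zero])))
  -- replace `a` so that the commutator has order `q`
  set a' := a ^ q ^ i with ha'
  set c := ⁅a', b⁆ with hcdef
  have hce : c = ⁅a, b⁆ ^ q ^ i := commutator_pow_left (hcen b) _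
  have hcZ : c ∈ Z := hce ▸ pow_mem (hcen b) _
  have hc1 : c ≠ 1 := by
    rw [hce]
    refine pow_ne_one_of_lt_orderOf (pow_ne_zero _ hq.out.ne_zero) ?_
    rw [hj]
    exact Nat.pow_lt_pow_right hq.out.one_lt (Nat.lt_succ_self i)
  have hcq : c ^ q = 1 := by
    rw [hce, ← pow_mul, ← pow_succ, ← hj, pow_orderOf_eq_one]
  have hab : a' * b = c * (b * a') := by simp [hcdef, commutatorElement_def, mul_assoc]
  have hcc : ∀ g : P, ρ c * ρ g = ρ g * ρ c := fun g => by
    rw [← map_mul, ← map_mul, (Subgroup.mem_center_iff.1 hcZ) g]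
  -- an eigenvalue of `c` other than one
  let e : Module.End k V := ∑ t ∈ Finset.range q, ρ c ^ t
  have hce' : ρ c ^ q = 1 := by rw [← map_pow, hcq, map_one]
  have hec : e * ρ c = e := by
    have h1 : e * (ρ c - 1) = 0 := by rw [geom_sum_mul, hce', sub_self]
    rwa [mul_sub, mul_one, sub_eq_zero] at h1
  obtain ⟨ε, hε1, hεq, hεne⟩ : ∃ ε : k, ε ≠ 1 ∧ ε ^ q = 1 ∧
      Module.End.eigenspace (ρ c) ε ≠ ⊥ := by
    have hW : LinearMap.ker e ≠ ⊥ := by
      intro hker
      have hinj' : Function.Injective e := LinearMap.ker_eq_bot.1 hker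
      refine hc1 (hinj (LinearMap.ext fun v => hinj' ?_))
      rw [map_one]
      exact LinearMap.congr_fun hec v
    have hmaps : ∀ v ∈ LinearMap.ker e, ρ c v ∈ LinearMap.ker e := by
      intro v hv
      rw [LinearMap.mem_ker] at hv ⊢
      exact (LinearMap.congr_fun hec v).trans hv
    haveI : Nontrivial (LinearMap.ker e) := Submodule.nontrivial_iff_ne_bot.2 hW
    obtain ⟨ε, hε⟩ := Module.End.exists_eigenvalue ((ρ c).restrict hmaps)
    obtain ⟨⟨v, hv⟩, hvε, hv0⟩ := hε.exists_hasEigenvector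
    have hvε' : ρ c v = ε • v := congrArg Subtype.val (Module.End.mem_eigenspace_iff.1 hvε)
    have hv0' : v ≠ 0 := fun h => hv0 (Subtype.ext h)
    have hpow : ∀ t : ℕ, (ρ c ^ t) v = ε ^ t • v := by
      intro t
      induction t with
      | zero => simp
      | succ t ih => rw [pow_succ', Module.End.mul_apply, ih, map_smul, hvε', smul_smul, ← pow_succ]
    refine ⟨ε, ?_, ?_, ?_⟩
    · rintro rfl
      rw [LinearMap.mem_ker] at hv
      have : (q : k) • v = 0 := by
        simpa [e, LinearMap.sum_apply, hpow, Nat.cast_smul_eq_nsmul] using hv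
      exact hv0' ((smul_eq_zero.1 this).resolve_left hqk)
    · have h1 := hpow q
      rw [hce', Module.End.one_apply] at h1
      have h2 : (ε ^ q - 1) • v = 0 := by rw [sub_smul, one_smul, ← h1, sub_self]
      exact sub_eq_zero.1 ((smul_eq_zero.1 h2).resolve_right hv0')
    · exact (Submodule.ne_bot_iff _).2 ⟨v, Module.End.mem_eigenspace_iff.2 hvε', hv0'⟩
  set W := Module.End.eigenspace (ρ c) ε with hW
  -- an eigenvector of `a'` inside it
  have hinv : ∀ g : P, ∀ v ∈ W, ρ g v ∈ W := by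
    intro g v hv
    rw [Module.End.mem_eigenspace_iff] at hv ⊢
    rw [← Module.End.mul_apply, hcc, Module.End.mul_apply, hv, map_smul]
  haveI : Nontrivial W := Submodule.nontrivial_iff_ne_bot.2 hεne
  obtain ⟨μ, hμ⟩ := Module.End.exists_eigenvalue ((ρ a').restrict (hinv a'))
  obtain ⟨⟨v, hvW⟩, hvμ, hv0⟩ := hμ.exists_hasEigenvector
  have hvμ' : ρ a' v = μ • v := congrArg Subtype.val (Module.End.mem_eigenspace_iff.1 hvμ)
  have hinjv : ∀ g : P, Function.Injective (ρ g) := fun g v w h => by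
    have := congrArg (ρ g⁻¹) h
    rwa [← Module.End.mul_apply, ← Module.End.mul_apply, ← map_mul, inv_mul_cancel, map_one,
      Module.End.one_apply, Module.End.one_apply] at this
  have hv0' : v ≠ 0 := fun h => hv0 (Subtype.ext h)
  have hμ0 : μ ≠ 0 := by
    rintro rfl
    exact hv0' (hinjv a' (by rw [hvμ', zero_smul, map_zero]))
  have hεc : ∀ w ∈ W, ρ c w = ε • w := fun w hw => Module.End.mem_eigenspace_iff.1 hw
  have hbv : ∀ t : ℕ, ρ (b ^ t) v ∈ W ∧ ρ a' (ρ (b ^ t) v) = (ε ^ t * μ) • ρ (b ^ t) v := by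
    intro t
    induction t with
    | zero => simpa using ⟨hvW, hvμ'⟩
    | succ t ih =>
      have hmem := hinv b _ ih.1
      have e1 : ρ (b ^ (t + 1)) v = ρ b (ρ (b ^ t) v) := by
        rw [← Module.End.mul_apply, ← map_mul, ← pow_succ']
      refine ⟨e1 ▸ hmem, ?_⟩
      rw [e1, ← Module.End.mul_apply, ← map_mul, hab, map_mul, map_mul, Module.End.mul_apply,
        Module.End.mul_apply, ih.2, map_smul, map_smul, hεc _ hmem, smul_smul, pow_succ]
      congr 1
      ring
  let f : Fin q → W := fun t => ⟨ρ (b ^ (t : ℕ)) v, (hbv t).1⟩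
  have hμs : Function.Injective fun t : Fin q => ε ^ (t : ℕ) * μ := by
    intro s t hst
    have hord : orderOf ε = q := orderOf_eq_prime hεq hε1
    exact Fin.ext (pow_injOn_Iio_orderOf (by simp [hord]) (by simp [hord])
      (mul_right_cancel₀ hμ0 hst))
  have hli : LinearIndependent k f := by
    apply Module.End.eigenvectors_linearIndependent' ((ρ a').restrict (hinv a'))
      (fun t : Fin q => ε ^ (t : ℕ) * μ) hμs
    intro t
    refine ⟨Module.End.mem_eigenspace_iff.2 (Subtype.ext (hbv t).2), fun h => hv0' ?_⟩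
    exact hinjv (b ^ (t : ℕ)) ((congrArg Subtype.val h).trans (map_zero _).symm)
  have h1 := hli.fintype_card_le_finrank
  rw [Fintype.card_fin] at h1
  have hlt : W < ⊤ := by
    refine lt_top_iff_ne_top.2 fun h => hv₀ ?_
    have h2 := hεc v₀ (h ▸ Submodule.mem_top)
    rw [hfix] at h2
    have h3 : (1 - ε) • v₀ = 0 := by rw [sub_smul, one_smul, ← h2, sub_self]
    exact (smul_eq_zero.1 h3).resolve_left (sub_ne_zero.2 (Ne.symm hε1))
  have h2 := Submodule.finrank_lt hlt.ne
  omega

/-- A `q`-group of automorphisms of an elementary abelian group of order `2 ^ q` is abelian. -/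
theorem comm_of_card_two_pow {F : Type*} [Group F] [Finite F] (hexp : ∀ f : F, f ^ 2 = 1)
    (hcomm : ∀ f g : F, f * g = g * f) {q : ℕ} [hq : Fact q.Prime] (hq2 : q ≠ 2)
    (hcard : Nat.card F = 2 ^ q) (P : Subgroup (MulAut F)) [Finite P] (hP : IsPGroup q P) (x y : P) :
    x * y = y * x := by
  classical
  letI : CommGroup F := { (inferInstance : Group F) with mul_comm := hcomm }
  letI : Module (ZMod 2) (Additive F) :=
    AddCommGroup.zmodModule (fun f => by
      rw [← ofMul_toMul f, ← ofMul_pow, hexp, ofMul_one])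
  haveI : Module.Finite (ZMod 2) (Additive F) := Module.Finite.of_finite
  have hfr : finrank (ZMod 2) (Additive F) = q := by
    have h := Module.natCard_eq_pow_finrank (K := ZMod 2) (V := Additive F)
    rw [Nat.card_zmod, Nat.card_congr Additive.toMul, hcard] at h
    exact Nat.pow_right_injective le_rfl h.symm
  -- a fixed point
  haveI : Fintype F := Fintype.ofFinite F
  letI : MulAction P F := MulAction.compHom F P.subtype
  have hfixed : ∃ f₀ : F, f₀ ≠ 1 ∧ ∀ g : P, (g : MulAut F) f₀ = f₀ := by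
    have h1 := hP.card_modEq_card_fixedPoints F
    by_contra hno
    push Not at hno
    have hsub : MulAction.fixedPoints P F = {1} := by
      ext f
      refine ⟨fun hf => ?_, ?_⟩
      · by_contra hne
        obtain ⟨g, hg⟩ := hno f hne
        exact hg (hf g)
      · rintro rfl g
        exact map_one (g : MulAut F)
    rw [hsub, hcard] at h1
    simp only [Set.mem_singleton_iff, Nat.card_eq_fintype_card, Fintype.card_subtype_eq] at h1
    have h2 : ((2 ^ q : ℕ) : ZMod q) = ((1 : ℕ) : ZMod q) := (ZMod.natCast_eq_natCast_iff _ _ _).2 h1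
    rw [Nat.cast_pow, ZMod.pow_card, Nat.cast_one] at h2
    have h3 : ((1 : ℕ) : ZMod q) = 0 := by
      push_cast at h2 ⊢
      linear_combination h2
    rw [Nat.cast_one] at h3
    exact one_ne_zero h3
  obtain ⟨f₀, hf₀, hfix⟩ := hfixed
  let ρ0 : P →* Module.End (ZMod 2) (Additive F) :=
    { toFun := fun g => (MonoidHom.toAdditive (g : MulAut F).toMonoidHom).toZModLinearMap 2
      map_one' := LinearMap.ext fun _ => rfl
      map_mul' := fun _ _ => LinearMap.ext fun _ => rfl }
  let k := AlgebraicClosure (ZMod 2)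
  haveI : CharP k 2 := charP_of_injective_algebraMap (algebraMap (ZMod 2) k).injective 2
  let bc : Module.End (ZMod 2) (Additive F) →ₐ[ZMod 2]
      Module.End k (k ⊗[ZMod 2] Additive F) := Module.End.baseChangeHom (ZMod 2) k (Additive F)
  have hmk : ∀ v w : Additive F, (1 : k) ⊗ₜ[ZMod 2] v = (1 : k) ⊗ₜ[ZMod 2] w → v = w :=
    fun v w h => Module.Flat.tensorProduct_mk_injective (ZMod 2) (Additive F) k h
  refine comm_of_finrank_le (k := k) (q := q) ?_ (by rw [Module.finrank_baseChange, hfr]) hP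
    ((bc : Module.End (ZMod 2) (Additive F) →* Module.End k (k ⊗[ZMod 2] Additive F)).comp ρ0) ?_
    (v₀ := (1 : k) ⊗ₜ[ZMod 2] Additive.ofMul f₀) ?_ ?_ x y
  · intro h
    exact hq2 ((Nat.prime_dvd_prime_iff_eq Nat.prime_two hq.out).1
      ((CharP.cast_eq_zero_iff k 2 q).1 h)).symm
  · intro g h hgh
    refine Subtype.ext (MulEquiv.ext fun f => ?_)
    exact Additive.ofMul.injective (hmk _ _
      (LinearMap.congr_fun hgh ((1 : k) ⊗ₜ[ZMod 2] Additive.ofMul f)))
  · intro h
    exact hf₀ (Additive.ofMul.injective (hmk _ 0 (by rw [h, TensorProduct.tmul_zero])))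
  · intro g
    show (1 : k) ⊗ₜ[ZMod 2] Additive.ofMul ((g : MulAut F) f₀) = _
    rw [hfix]

/-- The order of a group acted upon by a Frobenius group whose kernel fixes nothing. -/
theorem card_eq_pow_of_frobenius {F : Type*} [Group F] [Finite F] [hs : Group.IsSolvable F]
    (U : Subgroup (MulAut F)) (a : MulAut F) {q : ℕ} [hq : Fact q.Prime] (ha : orderOf a = q)
    (haU : a ∈ Subgroup.normalizer (U : Set (MulAut F))) (hqU : ¬ q ∣ Nat.card U)
    (hUfix : ∀ f, (∀ u ∈ U, u f = f) → f = 1) (hfpf : ∀ u ∈ U, a * u = u * a → u = 1)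
    (hcop : (Nat.card F).Coprime (Nat.card U * q)) :
    Nat.card F = Nat.card {f : F // a f = f} ^ q := by
  classical
  haveI : Finite (MulAut F) := inferInstance
  let X := F ⋊[MonoidHom.id (MulAut F)] MulAut F
  haveI : Finite X := Finite.of_equiv _ SemidirectProduct.equivProd.symm
  let inl : F →* X := SemidirectProduct.inl
  let inr : MulAut F →* X := SemidirectProduct.inr
  have hr : Function.Injective inr := SemidirectProduct.inr_injective
  have hl : Function.Injective inl := SemidirectProduct.inl_injective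
  have hconj : ∀ (σ : MulAut F) (f : F), inr σ * inl f * (inr σ)⁻¹ = inl (σ f) := fun σ f => by
    rw [← map_inv]; exact (SemidirectProduct.inl_aut (φ := MonoidHom.id (MulAut F)) σ f).symm
  have hcl : ∀ (σ : MulAut F) (f : F), inr σ * inl f = inl f * inr σ ↔ σ f = f := fun σ f => by
    rw [← mul_inv_eq_iff_eq_mul, hconj]; exact hl.eq_iff
  set U' := U.map inr with hU'
  set E' := (Subgroup.zpowers a).map inr with hE'
  set H := inl.range with hH
  have hcardU : Nat.card U' = Nat.card U := Subgroup.card_map_of_injective hr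
  have hcardE : Nat.card E' = q := by
    rw [Subgroup.card_map_of_injective hr, Nat.card_zpowers, ha]
  have hcardH : Nat.card H = Nat.card F := (Nat.card_congr (MonoidHom.ofInjective hl).toEquiv).symm
  have hEU : E' ≤ Subgroup.normalizer (U' : Set X) :=
    (Subgroup.map_mono (Subgroup.zpowers_le.2 haU)).trans (Subgroup.le_normalizer_map inr)
  have hcopUE : (Nat.card U').Coprime (Nat.card E') := by
    rw [hcardU, hcardE]; exact ((Nat.Prime.coprime_iff_not_dvd hq.out).2 hqU).symm
  have hfpf' : ∀ e ∈ E', e ≠ 1 → ∀ u ∈ U', e * u = u * e → u = 1 := by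
    rintro _ ⟨e, he, rfl⟩ hne _ ⟨u, hu, rfl⟩ hc
    rw [← map_mul, ← map_mul] at hc
    have hce := hr hc
    obtain ⟨n, rfl⟩ := Subgroup.mem_zpowers_iff.1 he
    have hn : ¬ (q : ℤ) ∣ n := fun hd => hne (by
      rw [← ha] at hd
      rw [orderOf_dvd_iff_zpow_eq_one.1 hd, map_one])
    have hco : IsCoprime n (q : ℤ) :=
      ((Nat.prime_iff_prime_int.1 hq.out).coprime_iff_not_dvd.2 hn).symm
    obtain ⟨s, t, hst⟩ := hco
    have hbez : a = (a ^ n) ^ s := by
      conv_lhs => rw [← zpow_one a, ← hst, zpow_add, mul_comm s n, zpow_mul,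
        mul_comm t, zpow_mul, zpow_natCast, ← ha, pow_orderOf_eq_one, one_zpow, mul_one]
    rw [hfpf u hu (by rw [hbez]; exact ((Commute.zpow_left hce s)).eq), map_one]
  have hHn : U' ⊔ E' ≤ Subgroup.normalizer (H : Set X) := by
    rw [hH, SemidirectProduct.range_inl_eq_ker_rightHom]
    exact le_top.trans (Subgroup.normalizer_eq_top _).ge
  have hcop' : (Nat.card H).Coprime (Nat.card ↥(U' ⊔ E')) := by
    rw [hcardH]
    refine hcop.coprime_dvd_right ?_
    rw [← hcardU, ← hcardE]
    exact CfsgLib.Structure.card_sup_dvd_mul hEU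
  have hform := OddOrder41.FixedFormula.fixed_formula U' E'
    (fun h => hq.out.ne_one (by rw [← hcardE, h, Subgroup.card_bot])) hEU hcopUE hfpf' H hHn
    (solvable_of_surjective (f := inl.rangeRestrict) inl.rangeRestrict_surjective) hcop'
  have hU1 : H ⊓ Subgroup.centralizer (U' : Set X) = ⊥ := by
    rw [eq_bot_iff]
    rintro _ ⟨⟨f, rfl⟩, hf⟩
    rw [Subgroup.mem_bot, hUfix f fun u hu => ?_, map_one]
    exact (hcl u f).1 (hf (inr u) ⟨u, hu, rfl⟩)
  have hUE1 : H ⊓ Subgroup.centralizer ((U' ⊔ E' : Subgroup X) : Set X) = ⊥ :=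
    eq_bot_iff.2 ((inf_le_inf_left H
      (Subgroup.centralizer_le (SetLike.coe_subset_coe.2 le_sup_left))).trans hU1.le)
  have hA : Nat.card ↥(H ⊓ Subgroup.centralizer (E' : Set X)) = Nat.card {f : F // a f = f} := by
    refine (Nat.card_congr (Equiv.ofBijective
      (fun f : {f : F // a f = f} => (⟨inl f.1, ⟨⟨f.1, rfl⟩, ?_⟩⟩ :
        ↥(H ⊓ Subgroup.centralizer (E' : Set X)))) ⟨?_, ?_⟩)).symm
    · intro e he
      obtain ⟨e, he', rfl⟩ := he
      obtain ⟨n, rfl⟩ := Subgroup.mem_zpowers_iff.1 he'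
      rw [map_zpow]
      exact (Commute.zpow_left ((hcl a f.1).2 f.2) n).eq
    · intro f g h
      exact Subtype.ext (hl (congrArg Subtype.val h))
    · rintro ⟨_, ⟨f, rfl⟩, hf⟩
      exact ⟨⟨f, (hcl a f).1 (hf (inr a) ⟨a, Subgroup.mem_zpowers a, rfl⟩)⟩, rfl⟩
  rwa [hUE1, hU1, Subgroup.card_bot, one_pow, one_mul, mul_one, hA, hcardE, hcardH] at hform

end CfsgLib.CoreSplit
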