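import Cfsg.Agent.Lib.BenderTrans.Main
import Cfsg.Agent.Lib.OddOrder41.FixedFormula
import Cfsg.Agent.Lib.Structure81.FPFPGroup
import Cfsg.Agent.Lib.Structure.Subnormal
import Cfsg.Agent.Lib.Frobenius.FPFThompson
import Cfsg.Agent.Lib.OddOrder.PuigSeries

/-!
A point stabiliser in a doubly transitive group in which every involution fixes one point, with a
minimal normal subgroup of odd order centralised by its involutions and acted upon without fixed
points by the two point stabiliser: first consequences.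
-/

set_option autoImplicit false

namespace CfsgLib.CoreSplit

open CfsgLib.BenderTrans MulAction Subgroup

universe u

variable {G : Type u} [Group G] {Ω : Type u} [MulAction G Ω]

/-- The hypotheses. -/
structure Setting (c y : Ω) (R Z : Subgroup G) (r : ℕ) : Prop where
  oneFix : OneFix G Ω
  faith : ∀ g : G, (∀ x : Ω, g • x = x) → g = 1
  four : HasFour G
  trans2 : TwoTrans G Ω
  hodd : ∀ X : Type u, ∀ _ : Group X, ∀ _ : Finite X, Odd (Nat.card X) → Group.IsSolvable X
  ne : y ≠ c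
  comm : ∀ s ∈ invAt G c, ∀ t ∈ invAt G c, Commute s t
  prime : r.Prime
  r_ne : r ≠ 2
  R_pGroup : IsPGroup r R
  R_ne : R ≠ ⊥
  R_le : R ≤ stabilizer G c
  R_normal : stabilizer G c ≤ Subgroup.normalizer (R : Set G)
  R_min : ∀ S ≤ R, stabilizer G c ≤ Subgroup.normalizer (S : Set G) → S = ⊥ ∨ S = R
  R_cent : ∀ t ∈ invAt G c, ∀ a ∈ R, Commute t a
  fpf_Z : ∀ z ∈ Z, z ≠ 1 → ∀ a ∈ R, Commute z a → a = 1
  fpf_pair : ∀ d ∈ two G c y, (orderOf d).Prime → ∀ s ∈ invAt G c, ∀ t ∈ invAt G c, s ≠ t →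
    Commute d s → Commute d t → ∀ a ∈ R, Commute d a → a = 1
  semireg : ∀ d ∈ two G c y, (∀ a ∈ R, Commute d a) → d = 1
  r_not_dvd : ¬ r ∣ (invAt G c).ncard
  Z_le : Z ≤ two G c y
  Z_normal : two G c y ≤ Subgroup.normalizer (Z : Set G)
  Z_cyclic : IsCyclic Z
  Z_inv : ∀ s ∈ swaps G c y, ∀ z ∈ Z, s * z * s⁻¹ = z⁻¹
  Z_hall : ∀ p : ℕ, p.Prime → p ∣ (invAt G c).ncard → ¬ p ∣ Z.relIndex (two G c y)
  Z_primes : ∀ p : ℕ, p.Prime → p ∣ Nat.card Z → p ∣ (invAt G c).ncard
  Z_fix : ∀ z ∈ Z, z ≠ 1 → ∀ x : Ω, z • x = x → x = c ∨ x = y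
  sect_core : ∀ M : Subgroup G, M ≠ ⊤ → Multi Ω M → FourIn M → ∀ a ∈ centres Ω M, ∀ N : Subgroup G,
    N ≤ M ⊓ stabilizer G a → M ⊓ stabilizer G a ≤ Subgroup.normalizer (N : Set G) →
      Odd (Nat.card N) → ∀ g ∈ N, ∀ x ∈ centres Ω M, g • x = x

/-- All nontrivial elements of the two point stabiliser act on `R` without fixed points. -/
def FullFpf (c y : Ω) (R : Subgroup G) : Prop :=
  ∀ d ∈ two G c y, d ≠ 1 → ∀ a ∈ R, Commute d a → a = 1

/-- A group acting without fixed points on `H` forces a coprime fixed-point-free section to centralise `H`. -/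
theorem centralizes_of_fpf [Finite G] {U H : Subgroup G} {x : G} {p : ℕ} (hp : p.Prime) (hx : orderOf x = p)
    (hxU : x ∈ Subgroup.normalizer (U : Set G)) (hUx : ∀ u ∈ U, Commute x u → u = 1)
    (hH : U ⊔ zpowers x ≤ Subgroup.normalizer (H : Set G)) (hsolv : Group.IsSolvable H)
    (hcopH : (Nat.card H).Coprime (Nat.card U * p)) (hHx : ∀ a ∈ H, Commute x a → a = 1) :
    U ≤ Subgroup.centralizer (H : Set G) := by
  have : Fact p.Prime := ⟨hp⟩
  set E := zpowers x with hE
  have hEcard : Nat.card E = p := by rw [hE, Nat.card_zpowers, hx]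
  have hEU : E ≤ Subgroup.normalizer (U : Set G) := zpowers_le.2 hxU
  have hgen : ∀ e ∈ E, e ≠ 1 → x ∈ zpowers e := by
    intro e he hne
    have : zpowers e = E := eq_of_le_of_card_ge (zpowers_le.2 he) (by
      rw [hEcard, Nat.card_zpowers]
      have hd := orderOf_dvd_natCard (⟨e, he⟩ : E)
      rw [hEcard, orderOf_mk] at hd
      exact ((Nat.dvd_prime hp).1 hd |>.resolve_left (by simpa using hne)).ge)
    exact this ▸ mem_zpowers x
  have hfpf : ∀ e ∈ E, e ≠ 1 → ∀ u ∈ U, e * u = u * e → u = 1 := by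
    intro e he hne u hu hc
    obtain ⟨n, hn⟩ := mem_zpowers_iff.1 (hgen e he hne)
    exact hUx u hu (hn ▸ (show Commute e u from hc).zpow_left n)
  have hcopUE : (Nat.card U).Coprime (Nat.card E) :=
    OddOrder41.FixedFormula.coprime_of_fpf hEU hfpf
  have hcop : (Nat.card H).Coprime (Nat.card ↥(U ⊔ E)) :=
    hcopH.coprime_dvd_right (by rw [← hEcard]; exact Structure.card_sup_dvd_mul hEU)
  have h := OddOrder41.FixedFormula.fixed_formula U E
    (fun e => hp.ne_one (by rw [← hEcard, e, Subgroup.card_bot])) hEU hcopUE hfpf H hH hsolv hcop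
  have hE1 : H ⊓ Subgroup.centralizer (E : Set G) = ⊥ := by
    rw [eq_bot_iff]
    rintro a ⟨ha, hac⟩
    exact hHx a ha (hac x (mem_zpowers x))
  have hUE1 : H ⊓ Subgroup.centralizer ((U ⊔ E : Subgroup G) : Set G) = ⊥ :=
    eq_bot_iff.2 ((inf_le_inf_left H
      (Subgroup.centralizer_le (SetLike.coe_subset_coe.2 le_sup_right))).trans hE1.le)
  rw [hUE1, hE1, Subgroup.card_bot, one_pow, one_mul, one_mul] at h
  have hle : H ≤ Subgroup.centralizer (U : Set G) :=
    inf_eq_left.1 (eq_of_le_of_card_ge inf_le_left h.le)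
  exact fun u hu a ha => (hle ha u hu).symm

/-- The subgroup of the involutions with centre `c`. -/
def eSub {c : Ω} (hc : ∀ s ∈ invAt G c, ∀ t ∈ invAt G c, Commute s t) : Subgroup G where
  carrier := insert 1 (invAt G c)
  one_mem' := Set.mem_insert 1 _
  mul_mem' := by
    rintro s t (rfl | hs) ht
    · rwa [one_mul]
    rcases ht with rfl | ht
    · rw [mul_one]; exact Or.inr hs
    by_cases h : s * t = 1
    · exact Or.inl h
    · refine Or.inr ⟨orderOf_eq_prime ?_ h, by rw [mul_smul, ht.2, hs.2]⟩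
      rw [(hc s hs t ht).mul_pow, ← hs.1, pow_orderOf_eq_one, hs.1, ← ht.1, pow_orderOf_eq_one,
        one_mul]
  inv_mem' := by
    rintro s (rfl | hs)
    · exact Or.inl inv_one
    · exact Or.inr ⟨by rw [orderOf_inv, hs.1], inv_smul_eq_iff.2 hs.2.symm⟩

namespace Setting

variable {c y : Ω} {R Z : Subgroup G} {r : ℕ} (h : Setting c y R Z r)
include h

/-- The involutions of the point stabiliser, with the identity. -/
abbrev E : Subgroup G := eSub h.comm

omit h in
/-- The centraliser of `R` in the point stabiliser. -/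
abbrev Q (c : Ω) (R : Subgroup G) : Subgroup G := stabilizer G c ⊓ Subgroup.centralizer (R : Set G)

theorem mem_E {g : G} : g ∈ h.E ↔ g = 1 ∨ g ∈ invAt G c := Iff.rfl

theorem invAt_of_mem_E {g : G} (hg : g ∈ h.E) (h1 : g ≠ 1) : g ∈ invAt G c :=
  ((h.mem_E).1 hg).resolve_left h1

theorem E_le_Q : h.E ≤ Q c R := by
  rintro g (rfl | hg)
  · exact one_mem _
  · exact ⟨hg.2, fun a ha => ((h.R_cent g hg a ha).eq).symm⟩

theorem le_normalizer_E : stabilizer G c ≤ Subgroup.normalizer (h.E : Set G) := by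
  refine Subgroup.le_normalizer_iff.2 fun g hg s hs => ?_
  rcases h.mem_E.1 hs with rfl | hs
  · simp
  · refine h.mem_E.2 (Or.inr ?_)
    have := conj_mem_invAt (g := g) hs
    rwa [mem_stabilizer_iff.1 hg] at this

theorem le_normalizer_Q : stabilizer G c ≤ Subgroup.normalizer (Q c R : Set G) := by
  refine Subgroup.le_normalizer_iff.2 fun g hg s hs => ⟨?_, fun a ha => ?_⟩
  · exact mul_mem (mul_mem hg hs.1) ((stabilizer G c).inv_mem hg)
  · have ha' : g⁻¹ * a * g ∈ R := by
      simpa using (Subgroup.mem_normalizer_iff.1 (h.R_normal (inv_mem hg)) a).1 ha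
    have := hs.2 _ ha'
    calc a * (g * s * g⁻¹) = g * ((g⁻¹ * a * g) * s) * g⁻¹ := by group
      _ = g * (s * (g⁻¹ * a * g)) * g⁻¹ := by rw [this]
      _ = _ := by group

theorem le_stab {d : G} (hd : d ∈ two G c y) : d ∈ stabilizer G c := hd.1

theorem two_inf_Q {d : G} (hd : d ∈ two G c y) (hQ : d ∈ Q c R) : d = 1 :=
  h.semireg d hd fun a ha => (hQ.2 a ha).symm

variable [Finite G]

/-- A swapping involution. -/
theorem exists_swap : ∃ s, s ∈ swaps G c y := by
  obtain ⟨s, hs⟩ := h.oneFix.exists_invAt c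
  obtain ⟨t, ht⟩ := h.oneFix.exists_invAt y
  obtain ⟨x, hx, -, -⟩ := h.oneFix.exists_mid hs ht (Ne.symm h.ne)
  exact ⟨x, hx⟩

theorem coprime_R (hfpf : FullFpf c y R) {U : Subgroup G} (hU : U ≤ two G c y) : (Nat.card R).Coprime (Nat.card U) := by
  refine OddOrder41.FixedFormula.coprime_of_fpf
    (fun d hd => h.R_normal (hU hd).1) fun d hd hne a ha hc => hfpf d (hU hd) hne a ha hc

theorem not_dvd_two (hfpf : FullFpf c y R) : ¬ r ∣ Nat.card (two G c y) := by
  intro hr
  obtain ⟨a, ha⟩ := Subgroup.ne_bot_iff_exists_ne_one.1 h.R_ne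
  have : Fact r.Prime := ⟨h.prime⟩
  obtain ⟨n, hn, hcard⟩ := (IsPGroup.nontrivial_iff_card h.R_pGroup).1 ⟨a, 1, ha⟩
  exact h.prime.ne_one (Nat.dvd_one.1 ((h.coprime_R hfpf (le_refl _)) ▸
    Nat.dvd_gcd (hcard ▸ dvd_pow_self r hn.ne') hr))

theorem odd_two : Odd (Nat.card (two G c y)) := h.oneFix.odd_two (Ne.symm h.ne)

/-- Odd prime power subgroups of the two point stabiliser are cyclic. -/
theorem isCyclic_of_fpf {q : ℕ} [Fact q.Prime] {S : Subgroup G} (hS : S ≤ two G c y)
    (hfS : ∀ d ∈ S, d ≠ 1 → ∀ a ∈ R, Commute d a → a = 1)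
    (hq : IsPGroup q S) : IsCyclic S := by
  let f : S →* MulAut R :=
    { toFun := fun s =>
        { toFun := fun a => ⟨(s : G) * (a : G) * (s : G)⁻¹,
            (Subgroup.mem_normalizer_iff.1 (h.R_normal (hS s.2).1) _).1 a.2⟩
          invFun := fun a => ⟨(s : G)⁻¹ * (a : G) * (s : G), by
            simpa using (Subgroup.mem_normalizer_iff.1 (h.R_normal (inv_mem (hS s.2).1)) _).1 a.2⟩
          left_inv := fun a => Subtype.ext (by simp [mul_assoc])
          right_inv := fun a => Subtype.ext (by simp [mul_assoc])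
          map_mul' := fun a b => Subtype.ext (by simp [mul_assoc]) }
      map_one' := MulEquiv.ext fun a => Subtype.ext (by simp)
      map_mul' := fun s t => MulEquiv.ext fun a => Subtype.ext (by simp [mul_assoc]) }
  letI : MulDistribMulAction S R := MulDistribMulAction.compHom R f
  have : Nontrivial R := (Subgroup.nontrivial_iff_ne_bot R).2 h.R_ne
  have hf : Frobenius.IsFPF S R := by
    intro s hs a ha
    have h1 : (s : G) * (a : G) * (s : G)⁻¹ = a := congrArg Subtype.val ha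
    exact Subtype.ext (hfS s s.2 (fun e => hs (Subtype.ext e)) a a.2
      (mul_inv_eq_iff_eq_mul.1 h1))
  rcases Structure81.isCyclic_or_quaternion_of_fpf hq hf with hc | ⟨n, ⟨e⟩⟩
  · exact hc
  · exfalso
    have h1 : 2 ∣ Nat.card S := by
      rw [Nat.card_congr e.toEquiv, Nat.card_eq_fintype_card, QuaternionGroup.card]
      exact dvd_mul_of_dvd_left (by norm_num) _
    have h2 := h.odd_two
    exact (Nat.not_even_iff_odd.2 h2)
      (even_iff_two_dvd.2 (h1.trans (Subgroup.card_dvd_of_le hS)))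

theorem isCyclic_of_pGroup (hfpf : FullFpf c y R) {q : ℕ} [Fact q.Prime] {S : Subgroup G}
    (hS : S ≤ two G c y) (hq : IsPGroup q S) : IsCyclic S :=
  h.isCyclic_of_fpf hS (fun d hd => hfpf d (hS hd)) hq

/-- Elements of distinct prime orders of the two point stabiliser commute when one is in `Z`. -/
theorem commute_of_prime (hfpf : FullFpf c y R) {z w : G} {p q : ℕ} (hp : p.Prime) (hq : q.Prime) (hpq : p ≠ q)
    (hzo : orderOf z = p) (hwo : orderOf w = q) (hz : z ∈ Z) (hw : w ∈ two G c y) : Commute w z := by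
  have : Fact p.Prime := ⟨hp⟩
  have hchar : w ∈ Subgroup.normalizer ((zpowers z : Subgroup G) : Set G) := by
    haveI := h.Z_cyclic
    have key : ∀ u : G, u ∈ two G c y → u * z * u⁻¹ ∈ zpowers z := by
      intro u hu
      have h1 : u * z * u⁻¹ ∈ Z := (Subgroup.mem_normalizer_iff.1 (h.Z_normal hu) z).1 hz
      obtain ⟨g, hg⟩ := IsCyclic.exists_generator (α := Z)
      classical
      haveI : Fintype Z := Fintype.ofFinite Z
      have hle := IsCyclic.card_pow_eq_one_le (α := Z) hp.pos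
      set z' : Z := ⟨z, hz⟩
      have hz' : orderOf z' = p := (orderOf_mk z hz).trans hzo
      have hsub : (Finset.univ.filter fun x : Z => x ^ p = 1) =
          (Finset.range p).image fun i => z' ^ i := by
        refine (Finset.eq_of_subset_of_card_le ?_ ?_).symm
        · intro x hx
          obtain ⟨i, -, rfl⟩ := Finset.mem_image.1 hx
          rw [Finset.mem_filter]
          exact ⟨Finset.mem_univ _, by rw [← pow_mul, mul_comm, pow_mul, ← hz', pow_orderOf_eq_one,
            one_pow]⟩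
        · rw [Finset.card_image_of_injOn (fun i hi j hj e => pow_injOn_Iio_orderOf
            (by simpa [hz'] using hi) (by simpa [hz'] using hj) e), Finset.card_range]
          exact hle
      have hm : (⟨u * z * u⁻¹, h1⟩ : Z) ∈ Finset.univ.filter fun x : Z => x ^ p = 1 := by
        rw [Finset.mem_filter]
        refine ⟨Finset.mem_univ _, Subtype.ext ?_⟩
        show (u * z * u⁻¹) ^ p = 1
        rw [conj_pow, ← hzo, pow_orderOf_eq_one, mul_one, mul_inv_cancel]
      rw [hsub, Finset.mem_image] at hm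
      obtain ⟨i, -, hi⟩ := hm
      have : u * z * u⁻¹ = z ^ i := (congrArg Subtype.val hi).symm
      exact this ▸ npow_mem_zpowers z i
    refine Subgroup.mem_normalizer_iff.2 fun x => ⟨fun hx => ?_, fun hx => ?_⟩
    · obtain ⟨n, rfl⟩ := mem_zpowers_iff.1 hx
      rw [← conj_zpow]; exact zpow_mem (key w hw) n
    · obtain ⟨n, hn⟩ := mem_zpowers_iff.1 hx
      have h2 : x = (w⁻¹ * z * w) ^ n := by
        have := conj_zpow (a := w⁻¹) (b := z) (i := n)
        rw [inv_inv] at this
        rw [this, hn]; group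
      rw [h2]
      exact zpow_mem (by simpa using key w⁻¹ (inv_mem hw)) n
  by_contra hne
  have hUle : zpowers z ≤ two G c y := zpowers_le.2 (h.Z_le hz)
  have hUx : ∀ u ∈ zpowers z, Commute w u → u = 1 := by
    intro u hu hc
    by_contra h1
    refine hne ?_
    have : zpowers u = zpowers z := eq_of_le_of_card_ge (zpowers_le.2 hu) (by
      rw [Nat.card_zpowers, Nat.card_zpowers, hzo]
      have hd := orderOf_dvd_natCard (⟨u, hu⟩ : zpowers z)
      rw [Nat.card_zpowers, hzo, orderOf_mk] at hd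
      exact ((Nat.dvd_prime hp).1 hd |>.resolve_left (by simpa using h1)).ge)
    obtain ⟨n, hn⟩ := mem_zpowers_iff.1 (this.symm ▸ mem_zpowers z)
    exact hn ▸ hc.zpow_right n
  have hH : zpowers z ⊔ zpowers w ≤ Subgroup.normalizer (R : Set G) :=
    sup_le (fun g hg => h.R_normal (hUle hg).1)
      (zpowers_le.2 (h.R_normal hw.1))
  have : Fact r.Prime := ⟨h.prime⟩
  haveI : Group.IsNilpotent R := h.R_pGroup.isNilpotent
  have hcop : (Nat.card R).Coprime (Nat.card (zpowers z) * q) := by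
    refine Nat.Coprime.mul_right (h.coprime_R hfpf hUle) ?_
    rw [← hwo, ← Nat.card_zpowers]
    exact h.coprime_R hfpf (zpowers_le.2 hw)
  have hcent := centralizes_of_fpf hq hwo hchar hUx hH inferInstance hcop
    (fun a ha hc => hfpf w hw (fun e => hq.ne_one (by rw [← hwo, e, orderOf_one])) a ha hc)
  have hz1 := h.two_inf_Q (h.Z_le hz) ⟨(h.Z_le hz).1, hcent (mem_zpowers z)⟩
  exact hp.ne_one (by rw [← hzo, hz1, orderOf_one])

/-- Involutions with centre `c` commuting with a nontrivial element of `Z`. -/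
theorem eq_one_of_commute {z e : G} (hz : z ∈ Z) (hz1 : z ≠ 1) (he : e ∈ h.E)
    (hc : Commute z e) : e = 1 := by
  by_contra he1
  obtain ⟨ho, hec⟩ := h.invAt_of_mem_E he he1
  have hfix : z • e • y = e • y := by rw [smul_smul, hc.eq, mul_smul, (h.Z_le hz).2]
  rcases h.Z_fix z hz hz1 _ hfix with e1 | e1
  · exact h.ne (by rw [← smul_smul_self ho y, e1, hec])
  · exact h.ne (h.oneFix.unique e ho y c e1 hec)

theorem ncard_inv_pos : 1 < (invAt G c).ncard := by
  obtain ⟨s, t, hs, ht, hne, -⟩ := h.oneFix.exists_invAt_ne h.four c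
  exact (Set.one_lt_ncard (Set.toFinite _)).2 ⟨s, hs, t, ht, hne⟩

/-- `Z` is transitive on the involutions with centre `c`. -/
theorem exists_conj {s t : G} (hs : s ∈ invAt G c) (ht : t ∈ invAt G c) :
    ∃ z ∈ Z, z * s * z⁻¹ = t := by
  classical
  set m := (invAt G c).ncard with hm
  let φ : Z → invAt G c := fun z => ⟨(z : G) * s * (z : G)⁻¹, by
    have := conj_mem_invAt (g := (z : G)) hs
    rwa [show (z : G) • c = c from (h.Z_le z.2).1] at this⟩
  have hinj : Function.Injective φ := by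
    intro z w e
    have e' : (z : G) * s * (z : G)⁻¹ = (w : G) * s * (w : G)⁻¹ := congrArg Subtype.val e
    by_contra hne
    have hc : Commute ((w : G)⁻¹ * z) s := by
      show (w : G)⁻¹ * z * s = s * ((w : G)⁻¹ * z)
      calc (w : G)⁻¹ * z * s = (w : G)⁻¹ * ((z : G) * s * (z : G)⁻¹) * z := by group
        _ = _ := by rw [e']; group
    refine (fun e1 => hne ?_) (h.eq_one_of_commute (mul_mem (inv_mem w.2) z.2) (fun e1 =>
      hne (Subtype.ext (inv_mul_eq_one.1 e1).symm)) (Or.inr hs) hc)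
    exact absurd (e1 ▸ hs.1) (by simp)
  -- the stabiliser acts transitively, so `m` divides the order of the two point stabiliser
  have hmD : m ∣ Nat.card (two G c y) := by
    letI : MulAction (two G c y) (invAt G c) :=
      { smul := fun d x => ⟨(d : G) * (x : G) * (d : G)⁻¹, by
          have := conj_mem_invAt (g := (d : G)) x.2
          rwa [show (d : G) • c = c from mem_stabilizer_iff.1 d.2.1] at this⟩
        one_smul := fun x => Subtype.ext (show (1 : G) * (x : G) * (1 : G)⁻¹ = x by simp)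
        mul_smul := fun d e x => Subtype.ext (show ((d : G) * (e : G)) * (x : G) * ((d : G) * (e : G))⁻¹ =
          (d : G) * ((e : G) * (x : G) * (e : G)⁻¹) * (d : G)⁻¹ by group) }
    haveI : MulAction.IsPretransitive (two G c y) (invAt G c) := ⟨fun a b => by
      obtain ⟨d, hd, hd'⟩ := h.oneFix.exists_conj_invAt (Ne.symm h.ne) a.2 b.2
      exact ⟨⟨d, hd⟩, Subtype.ext hd'⟩⟩
    have := MulAction.index_stabilizer_of_transitive (two G c y) (⟨s, hs⟩ : invAt G c)
    rw [hm, ← Nat.card_coe_set_eq, ← this]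
    exact Subgroup.index_dvd_card _
  have hmZ : m ∣ Nat.card Z := by
    rw [← Nat.card_congr (Subgroup.subgroupOfEquivOfLe h.Z_le).toEquiv]
    rw [← Subgroup.index_mul_card (Z.subgroupOf (two G c y))] at hmD
    exact (Nat.Coprime.dvd_mul_left (Nat.coprime_of_dvd fun p hp h1 h2 => h.Z_hall p hp h1 h2)).1 hmD
  have hle : Nat.card Z ≤ Nat.card (invAt G c) := Nat.card_le_card_of_injective φ hinj
  have hbij : Function.Bijective φ := hinj.bijective_of_nat_card_le (by
    rw [Nat.card_coe_set_eq]; exact Nat.le_of_dvd Nat.card_pos hmZ)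
  obtain ⟨z, hz⟩ := hbij.2 ⟨t, ht⟩
  exact ⟨z, z.2, congrArg Subtype.val hz⟩

/-- Elements of the point stabiliser normalising a nontrivial subgroup of `Z` fix `y`. -/
theorem mem_two_of_normalizes {g z : G} (hg : g ∈ stabilizer G c) (hz : z ∈ Z) (hz1 : z ≠ 1)
    (hconj : g⁻¹ * z * g ∈ Z) : g ∈ two G c y := by
  refine ⟨hg, ?_⟩
  have h2 : (g⁻¹ * z * g) • y = y := (h.Z_le hconj).2
  have h3 : z • g • y = g • y := by
    rw [smul_smul]
    rw [mul_smul, mul_smul, inv_smul_eq_iff] at h2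
    rw [mul_smul]; exact h2
  rcases h.Z_fix z hz hz1 _ h3 with e | e
  · exact absurd (smul_left_cancel g (e.trans (mem_stabilizer_iff.1 hg).symm)) h.ne
  · exact e

theorem mem_two_of_commute {g z : G} (hg : g ∈ stabilizer G c) (hz : z ∈ Z) (hz1 : z ≠ 1)
    (hc : Commute z g) : g ∈ two G c y :=
  h.mem_two_of_normalizes hg hz hz1 (by rw [mul_assoc, hc.eq, ← mul_assoc, inv_mul_cancel, one_mul]; exact hz)

/-- An element of prime order of `Z`. -/
theorem exists_prime_mem : ∃ p : ℕ, p.Prime ∧ ∃ z ∈ Z, orderOf z = p := by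
  obtain ⟨s, t, hs, ht, hne, -⟩ := h.oneFix.exists_invAt_ne h.four c
  obtain ⟨z, hz, hzs⟩ := h.exists_conj hs ht
  have hne1 : Nat.card Z ≠ 1 := fun e => by
    rw [Subgroup.card_eq_one.1 e, Subgroup.mem_bot] at hz
    exact hne (by simpa [hz] using hzs)
  obtain ⟨p, hp, hpd⟩ := Nat.exists_prime_and_dvd hne1
  have : Fact p.Prime := ⟨hp⟩
  obtain ⟨x, hx⟩ := exists_prime_orderOf_dvd_card' p hpd
  exact ⟨p, hp, x, x.2, by rw [Subgroup.orderOf_coe]; exact hx⟩

theorem isNilpotent_Q : Group.IsNilpotent (Q c R) := by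
  obtain ⟨p, hp, z, hz, hzo⟩ := h.exists_prime_mem
  have hz1 : z ≠ 1 := fun e => hp.ne_one (by rw [← hzo, e, orderOf_one])
  refine Frobenius.Thompson.isNilpotent_of_element (Q c R)
    (h.le_normalizer_Q (h.Z_le hz).1) hp (by rw [← hzo, pow_orderOf_eq_one]) fun k hk hc => ?_
  exact h.two_inf_Q (h.mem_two_of_commute hk.1 hz hz1 hc) hk

/-- `C_T(R)` centralises the involutions with centre `c`. -/
theorem Q_centralizes_E {g e : G} (hg : g ∈ Q c R) (he : e ∈ h.E) : Commute g e := by
  rcases h.mem_E.1 he with rfl | he'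
  · exact Commute.one_right g
  haveI := h.isNilpotent_Q
  haveI hZn : (Subgroup.center (Q c R)).Characteristic := inferInstance
  -- an involution in the centre of `Q`
  have : Fact (Nat.Prime 2) := ⟨Nat.prime_two⟩
  obtain ⟨S⟩ := (inferInstance : Nonempty (Sylow 2 (Q c R)))
  haveI hSn : (S : Subgroup (Q c R)).Normal :=
    ((Group.isNilpotent_of_finite_tfae (G := Q c R)).out 0 3 rfl rfl).1 inferInstance 2 inferInstance S
  have heS : (⟨e, h.E_le_Q he⟩ : Q c R) ∈ (S : Subgroup (Q c R)) := by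
    have h2 : IsPGroup 2 (zpowers (⟨e, h.E_le_Q he⟩ : Q c R)) :=
      IsPGroup.of_card (n := 1) (by
        rw [Nat.card_zpowers, ← Subgroup.orderOf_coe, pow_one]; exact he'.1)
    obtain ⟨P, hP⟩ := h2.exists_le_sylow
    haveI := Sylow.unique_of_normal S hSn
    rw [Subsingleton.elim S P]
    exact hP (mem_zpowers _)
  have hS1 : Nontrivial (S : Subgroup (Q c R)) :=
    ⟨⟨⟨_, heS⟩, 1, fun e1 => (he'.1 ▸ (by norm_num : (2 : ℕ) ≠ 1))
      (by simpa [he'.1] using congrArg orderOf (congrArg (fun x : (S : Subgroup (Q c R)) =>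
        ((x : Q c R) : G)) e1))⟩⟩
  obtain ⟨u, hu, hu1⟩ : ∃ u : Q c R, u ∈ Subgroup.center (Q c R) ∧ orderOf (u : G) = 2 := by
    have hne : (S : Subgroup (Q c R)) ⊓ Subgroup.center (Q c R) ≠ ⊥ := by
      rw [inf_comm]
      exact OddOrder.PuigSeries.inf_center_ne_bot _ ((Subgroup.nontrivial_iff_ne_bot _).1 hS1)
    obtain ⟨n, hn, hcard⟩ := (IsPGroup.nontrivial_iff_card
      (S.2.to_le inf_le_left)).1 ((Subgroup.nontrivial_iff_ne_bot _).2 hne)
    obtain ⟨u, hu⟩ := exists_prime_orderOf_dvd_card' (G := ↥((S : Subgroup (Q c R)) ⊓ Subgroup.center (Q c R))) 2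
      (hcard ▸ dvd_pow_self 2 hn.ne')
    exact ⟨u, u.2.2, by rw [Subgroup.orderOf_coe, Subgroup.orderOf_coe]; exact hu⟩
  obtain ⟨z, hz, hzu⟩ := h.exists_conj (s := (u : G)) ⟨hu1, u.2.1⟩ he'
  have hg' : z⁻¹ * g * z ∈ Q c R := by
    simpa using (Subgroup.mem_normalizer_iff.1 (h.le_normalizer_Q (inv_mem (h.Z_le hz).1)) g).1 hg
  have hc : z⁻¹ * g * z * (u : G) = (u : G) * (z⁻¹ * g * z) :=
    congrArg Subtype.val ((Subgroup.mem_center_iff.1 hu) ⟨_, hg'⟩)
  show g * e = e * g
  rw [← hzu]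
  calc g * (z * (u : G) * z⁻¹) = z * (z⁻¹ * g * z * (u : G)) * z⁻¹ := by group
    _ = z * ((u : G) * (z⁻¹ * g * z)) * z⁻¹ := by rw [hc]
    _ = _ := by group

/-- A `p`-subgroup of the point stabiliser containing an element of order `p` of `Z` lies in `Z`. -/
theorem pGroup_le_Z {p : ℕ} [hp : Fact p.Prime] {P : Subgroup G} (hP : IsPGroup p P)
    (hPT : P ≤ stabilizer G c) {x : G} (hx : x ∈ P) (hxZ : x ∈ Z) (hxo : orderOf x = p) : P ≤ Z := by
  have hpZ : p ∣ Nat.card Z := hxo ▸ by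
    simpa using orderOf_dvd_natCard (⟨x, hxZ⟩ : Z)
  have hx1 : x ≠ 1 := fun e => hp.out.ne_one (by rw [← hxo, e, orderOf_one])
  -- the `p`-elements of the two point stabiliser lie in `Z`
  have hD : ∀ g ∈ P, g ∈ two G c y → g ∈ Z := by
    intro g hg hgD
    haveI : (Z.subgroupOf (two G c y)).Normal :=
      Subgroup.normal_subgroupOf_iff_le_normalizer h.Z_le |>.2 h.Z_normal
    have h1 : g ^ Z.relIndex (two G c y) ∈ Z :=
      Subgroup.pow_index_mem (Z.subgroupOf (two G c y)) (⟨g, hgD⟩ : two G c y)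
    obtain ⟨k, hk⟩ := hP ⟨g, hg⟩
    have hg' : orderOf g ∣ p ^ k := orderOf_dvd_of_pow_eq_one (congrArg Subtype.val hk)
    have hcop : (Z.relIndex (two G c y)).Coprime (orderOf g) :=
      Nat.Coprime.coprime_dvd_right hg' (Nat.Coprime.pow_right k
        ((Nat.Prime.coprime_iff_not_dvd hp.out).2
          (h.Z_hall p hp.out (h.Z_primes p hp.out hpZ))).symm)
    obtain ⟨n, hn⟩ := exists_pow_eq_self_of_coprime hcop
    exact hn ▸ pow_mem h1 n
  by_contra hle
  haveI : Group.IsNilpotent P := hP.isNilpotent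
  have hlt : Z.subgroupOf P < ⊤ := lt_top_iff_ne_top.2 fun e =>
    hle (Subgroup.subgroupOf_eq_top.1 e)
  obtain ⟨g, hg, hgZ⟩ :=
    SetLike.exists_of_lt (Group.normalizerCondition_of_isNilpotent (G := P) _ hlt)
  have h1 : g⁻¹ * ⟨x, hx⟩ * g ∈ Z.subgroupOf P := by
    simpa using (Subgroup.mem_normalizer_iff.1 (inv_mem hg) ⟨x, hx⟩).1 hxZ
  exact hgZ (hD g g.2 (h.mem_two_of_normalizes (hPT g.2) hxZ hx1 h1))

end Setting

end CfsgLib.CoreSplit
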