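import Cfsg.Agent.Lib.CoreSplit.Invariant

/-!
Doubly transitive configurations inside the group: subgroups containing two commuting involutions
with centre `c` on which the induced part of the cyclic Hall subgroup is transitive, and the
configurations cut out by centralisers of elements of the two point stabiliser.
-/

set_option autoImplicit false

namespace CfsgLib.CoreSplit

open CfsgLib.BenderTrans MulAction Subgroup CfsgLib.Involutions
open scoped Pointwise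

universe u

variable {G : Type u} [Group G] {Ω : Type u} [MulAction G Ω]

/-- A configuration: a subgroup with its involutions' centres. -/
structure Conf (c y : Ω) (Z M : Subgroup G) : Prop where
  mem_y : y ∈ centres Ω M
  big : ∃ s ∈ invAt G c, s ∈ M ∧ ∃ t ∈ invAt G c, t ∈ M ∧ s ≠ t
  ztrans : ∀ s ∈ invAt G c, s ∈ M → ∀ t ∈ invAt G c, t ∈ M → ∃ z ∈ Z, z ∈ M ∧ z * s * z⁻¹ = t
  trans : ∀ a ∈ centres Ω M, a ≠ c → ∃ g ∈ M, g • c = c ∧ g • y = a

/-- The part of the point stabiliser in `M` centralising the involutions of `M` with centre `c`. -/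
abbrev centF (c : Ω) (M : Subgroup G) : Subgroup G :=
  M ⊓ stabilizer G c ⊓ Subgroup.centralizer {s | s ∈ invAt G c ∧ s ∈ M}

namespace Setting

variable {c y : Ω} {R Z : Subgroup G} {r : ℕ} (h : Setting c y R Z r) [Finite G] {M : Subgroup G}
include h

/-- The whole group is a configuration. -/
theorem conf_top : Conf c y Z (⊤ : Subgroup G) := by
  obtain ⟨s, t, hs, ht, hne, -⟩ := h.oneFix.exists_invAt_ne h.four c
  refine ⟨?_, ⟨s, hs, mem_top s, t, ht, mem_top t, hne⟩, fun s hs _ t ht _ => ?_, fun a _ ha => ?_⟩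
  · obtain ⟨u, hu⟩ := h.oneFix.exists_invAt y
    exact mem_centres (mem_top u) hu
  · obtain ⟨z, hz, hzs⟩ := h.exists_conj hs ht
    exact ⟨z, hz, mem_top z, hzs⟩
  · obtain ⟨g, hg, hgy⟩ := h.trans2 c y a h.ne ha
    exact ⟨g, mem_top g, hg, hgy⟩

omit [Finite G] in
theorem conj_mem_invAt' {g s : G} (hg : g ∈ stabilizer G c) (hs : s ∈ invAt G c) :
    g * s * g⁻¹ ∈ invAt G c := by
  have := conj_mem_invAt (g := g) hs
  rwa [mem_stabilizer_iff.1 hg] at this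

/-- A configuration contains an element of prime order of `Z`. -/
theorem exists_prime (hM : Conf c y Z M) :
    ∃ p : ℕ, p.Prime ∧ ∃ x ∈ Z, x ∈ M ∧ orderOf x = p := by
  obtain ⟨s, hs, hsM, t, ht, htM, hne⟩ := hM.big
  obtain ⟨z, hz, hzM, hzs⟩ := hM.ztrans s hs hsM t ht htM
  have hne1 : Nat.card (Z ⊓ M : Subgroup G) ≠ 1 := fun e => by
    have : z ∈ (⊥ : Subgroup G) := Subgroup.card_eq_one.1 e ▸ (⟨hz, hzM⟩ : z ∈ Z ⊓ M)
    rw [Subgroup.mem_bot] at this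
    exact hne (by simpa [this] using hzs)
  obtain ⟨p, hp, hpd⟩ := Nat.exists_prime_and_dvd hne1
  have : Fact p.Prime := ⟨hp⟩
  obtain ⟨x, hx⟩ := exists_prime_orderOf_dvd_card' p hpd
  exact ⟨p, hp, x, x.2.1, x.2.2, by rw [Subgroup.orderOf_coe]; exact hx⟩

omit [Finite G] in
theorem Z_comm {z z' : G} (hz : z ∈ Z) (hz' : z' ∈ Z) : Commute z z' := by
  haveI := h.Z_cyclic
  letI := IsCyclic.commGroup (α := Z)
  exact congrArg Subtype.val (mul_comm (⟨z, hz⟩ : Z) ⟨z', hz'⟩)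

/-- An element centralising the involutions of a configuration commutes with its part of `Z`. -/
theorem commute_of_cent (hM : Conf c y Z M) {d : G} (hd : d ∈ two G c y) (hdM : d ∈ M)
    (hcent : ∀ s ∈ invAt G c, s ∈ M → Commute d s) {z : G} (hz : z ∈ Z) (hzM : z ∈ M) :
    Commute d z := by
  obtain ⟨s, hs, hsM, -⟩ := hM.big
  have hz1 : d * z * d⁻¹ ∈ Z := (Subgroup.mem_normalizer_iff.1 (h.Z_normal hd) z).1 hz
  have hzT : z ∈ stabilizer G c := (h.Z_le hz).1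
  have h1 : Commute d (z * s * z⁻¹) :=
    hcent _ (h.conj_mem_invAt' hzT hs) (mul_mem (mul_mem hzM hsM) (inv_mem hzM))
  have hcom : Commute (z⁻¹ * (d * z * d⁻¹)) s := by
    show z⁻¹ * (d * z * d⁻¹) * s = s * (z⁻¹ * (d * z * d⁻¹))
    have hds := (hcent s hs hsM).eq
    calc z⁻¹ * (d * z * d⁻¹) * s = z⁻¹ * (d * z) * (d⁻¹ * s) := by group
      _ = z⁻¹ * (d * z) * (s * d⁻¹) := by rw [((hcent s hs hsM).inv_left).eq]
      _ = z⁻¹ * (d * (z * s * z⁻¹)) * (z * d⁻¹) := by group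
      _ = z⁻¹ * ((z * s * z⁻¹) * d) * (z * d⁻¹) := by rw [h1.eq]
      _ = _ := by group
  by_contra hne
  refine absurd (h.eq_one_of_commute (mul_mem (inv_mem hz) hz1) (fun e => hne ?_) (Or.inr hs) hcom)
    (fun e => by simpa [e] using hs.1)
  have e' : d * z * d⁻¹ = z := (inv_mul_eq_one.1 e).symm
  exact mul_inv_eq_iff_eq_mul.1 e'

/-- A coprime element commuting with the part of `Z` centralises the involutions. -/
theorem cent_of_commute (hM : Conf c y Z M) {d : G} (hd : d ∈ two G c y) (hdM : d ∈ M)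
    (hcop : (orderOf d).Coprime (Nat.card (Z ⊓ M : Subgroup G)))
    (hcomm : ∀ z ∈ Z, z ∈ M → Commute d z) {s : G} (hs : s ∈ invAt G c) (hsM : s ∈ M) :
    Commute d s := by
  obtain ⟨z, hz, hzM, hzs⟩ := hM.ztrans s hs hsM _ (h.conj_mem_invAt' hd.1 hs)
    (mul_mem (mul_mem hdM hsM) (inv_mem hdM))
  have hdz := hcomm z hz hzM
  have key : ∀ n : ℕ, d ^ n * s * (d ^ n)⁻¹ = z ^ n * s * (z ^ n)⁻¹ := by
    intro n
    induction n with
    | zero => simp
    | succ n ih =>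
      calc d ^ (n + 1) * s * (d ^ (n + 1))⁻¹ = d * (d ^ n * s * (d ^ n)⁻¹) * d⁻¹ := by
            rw [pow_succ']; group
        _ = (d * z ^ n) * s * (d * z ^ n)⁻¹ := by rw [ih]; group
        _ = z ^ n * (d * s * d⁻¹) * (z ^ n)⁻¹ := by rw [(hdz.pow_right n).eq]; group
        _ = z ^ n * (z * s * z⁻¹) * (z ^ n)⁻¹ := by rw [hzs]
        _ = _ := by rw [pow_succ]; group
  have h1 := key (orderOf d)
  rw [pow_orderOf_eq_one, one_mul, inv_one, mul_one] at h1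
  have hz1 : z ^ orderOf d = 1 := by
    by_contra hne
    refine absurd (h.eq_one_of_commute (pow_mem hz _) hne (Or.inr hs)
      (mul_inv_eq_iff_eq_mul.1 h1.symm)) (fun e => by simpa [e] using hs.1)
  have hzord : orderOf z ∣ Nat.card (Z ⊓ M : Subgroup G) :=
    Subgroup.orderOf_dvd_natCard _ (show z ∈ Z ⊓ M from ⟨hz, hzM⟩)
  have : z = 1 := orderOf_eq_one_iff.1
    (Nat.eq_one_of_dvd_coprimes hcop (orderOf_dvd_of_pow_eq_one hz1) hzord)
  rw [this, inv_one, mul_one, one_mul] at hzs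
  exact mul_inv_eq_iff_eq_mul.1 hzs.symm

/-- A `q`-element moving the part of `Z` has `q` prime to it. -/
theorem not_dvd_Z {q k : ℕ} (hq : q.Prime) {w : G} (hw : w ∈ two G c y) (hwq : w ^ q ^ k = 1)
    {z : G} (hz : z ∈ Z) (hne : ¬ Commute w z) : ¬ q ∣ Nat.card (Z ⊓ M : Subgroup G) := by
  intro hd
  have hqZ : q ∣ Nat.card Z := hd.trans (Subgroup.card_dvd_of_le inf_le_left)
  haveI : (Z.subgroupOf (two G c y)).Normal :=
    Subgroup.normal_subgroupOf_iff_le_normalizer h.Z_le |>.2 h.Z_normal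
  have h1 : w ^ Z.relIndex (two G c y) ∈ Z :=
    Subgroup.pow_index_mem (Z.subgroupOf (two G c y)) (⟨w, hw⟩ : two G c y)
  have hcop : (Z.relIndex (two G c y)).Coprime (orderOf w) :=
    Nat.Coprime.coprime_dvd_right (orderOf_dvd_of_pow_eq_one hwq) (Nat.Coprime.pow_right k
      ((Nat.Prime.coprime_iff_not_dvd hq).2 (h.Z_hall q hq (h.Z_primes q hq hqZ))).symm)
  obtain ⟨n, hn⟩ := exists_pow_eq_self_of_coprime hcop
  exact hne (h.Z_comm (hn ▸ pow_mem h1 n) hz)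

/-- If the `q`th power of a `q`-element moving the part of `Z` does not move it, it is not trivial. -/
theorem pow_ne_one (hfpf : FullFpf c y R) {q : ℕ} (hq : q.Prime) {w : G} (hw : w ∈ two G c y) (hwM : w ∈ M)
    {z : G} (hz : z ∈ Z) (hzM : z ∈ M) (hne : ¬ Commute w z) : w ^ q ≠ 1 := by
  intro hwq
  have : Fact q.Prime := ⟨hq⟩
  have hwo : orderOf w = q := orderOf_eq_prime hwq fun e => hne (e ▸ Commute.one_left z)
  have hqZ := h.not_dvd_Z (M := M) (k := 1) hq hw (by rw [pow_one]; exact hwq) hz hne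
  have ha : w * z * w⁻¹ * z⁻¹ ∈ Z :=
    mul_mem ((Subgroup.mem_normalizer_iff.1 (h.Z_normal hw) z).1 hz) (inv_mem hz)
  have ha1 : w * z * w⁻¹ * z⁻¹ ≠ 1 := fun e =>
    hne (mul_inv_eq_iff_eq_mul.1 (mul_inv_eq_one.1 e))
  have hne1 : orderOf (w * z * w⁻¹ * z⁻¹) ≠ 1 := fun e => ha1 (orderOf_eq_one_iff.1 e)
  obtain ⟨p, hp, hpd⟩ := Nat.exists_prime_and_dvd hne1
  set a := w * z * w⁻¹ * z⁻¹ with hadef
  set n := orderOf a / p with hn
  have hao : orderOf (a ^ n) = p := by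
    have hd : n ∣ orderOf a := Nat.div_dvd_of_dvd hpd
    rw [orderOf_pow_of_dvd (Nat.div_pos (Nat.le_of_dvd (orderOf_pos a) hpd) hp.pos).ne' hd]
    exact Nat.div_div_self hpd (orderOf_pos a).ne'
  have haM : a ^ n ∈ Z ⊓ M := ⟨pow_mem ha n,
    pow_mem (mul_mem (mul_mem (mul_mem hwM hzM) (inv_mem hwM)) (inv_mem hzM)) n⟩
  have hpZ : p ∣ Nat.card (Z ⊓ M : Subgroup G) :=
    hao ▸ Subgroup.orderOf_dvd_natCard _ haM
  have hpq : p ≠ q := fun e => hqZ (e ▸ hpZ)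
  have hc : Commute w (a ^ n) := h.commute_of_prime hfpf hp hq hpq hao hwo (pow_mem ha n) hw
  have h1 : w * z ^ n * w⁻¹ = a ^ n * z ^ n := by
    rw [← (h.Z_comm ha hz).mul_pow, hadef, inv_mul_cancel_right, conj_pow]
  have key : ∀ i : ℕ, w ^ i * z ^ n * (w ^ i)⁻¹ = (a ^ n) ^ i * z ^ n := by
    intro i
    induction i with
    | zero => simp
    | succ i ih =>
      calc w ^ (i + 1) * z ^ n * (w ^ (i + 1))⁻¹ = w * (w ^ i * z ^ n * (w ^ i)⁻¹) * w⁻¹ := by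
            rw [pow_succ']; group
        _ = (w * (a ^ n) ^ i) * z ^ n * w⁻¹ := by rw [ih]; group
        _ = (a ^ n) ^ i * (w * z ^ n * w⁻¹) := by rw [(hc.pow_right i).eq]; group
        _ = _ := by rw [h1, pow_succ]; group
  have h2 := key q
  rw [hwq, one_mul, inv_one, mul_one] at h2
  have h3 : (a ^ n) ^ q = 1 := mul_eq_right.1 h2.symm
  exact hpq ((Nat.prime_dvd_prime_iff_eq hp hq).1 (hao ▸ orderOf_dvd_of_pow_eq_one h3))

/-- The centraliser of the involutions in a configuration has order prime to the primes of `Z ⊓ M`. -/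
theorem not_dvd_centF (hM : Conf c y Z M) {p : ℕ} (hp : p.Prime) {x : G} (hxZ : x ∈ Z)
    (hxM : x ∈ M) (hxo : orderOf x = p) : ¬ p ∣ Nat.card (centF c M) := by
  intro hd
  have : Fact p.Prime := ⟨hp⟩
  obtain ⟨k, hk⟩ := exists_prime_orderOf_dvd_card' (G := centF c M) p hd
  set T : Subgroup G := M ⊓ stabilizer G c with hT
  let x' : T := ⟨x, hxM, (h.Z_le hxZ).1⟩
  let k' : T := ⟨k, k.2.1⟩
  have hx' : orderOf x' = p := by rw [← Subgroup.orderOf_coe]; exact hxo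
  have hk' : orderOf k' = p := by rw [← Subgroup.orderOf_coe]; exact (Subgroup.orderOf_coe k).trans hk
  have hpg : ∀ g : T, orderOf g = p → IsPGroup p (zpowers g) := fun g hg =>
    IsPGroup.of_card (n := 1) (by rw [Nat.card_zpowers, hg, pow_one])
  obtain ⟨P, hP⟩ := (hpg x' hx').exists_le_sylow
  obtain ⟨P', hP'⟩ := (hpg k' hk').exists_le_sylow
  obtain ⟨g, hg⟩ := MulAction.exists_smul_eq T P' P
  have hmem : g * k' * g⁻¹ ∈ (P : Subgroup T) := by
    rw [← hg, Sylow.coe_subgroup_smul, Subgroup.mem_pointwise_smul_iff_inv_smul_mem]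
    simpa [mul_assoc] using hP' (mem_zpowers k')
  have hle := h.pGroup_le_Z (P := (P : Subgroup T).map T.subtype) (P.isPGroup'.map _)
    ((Subgroup.map_subtype_le _).trans inf_le_right) ⟨x', hP (mem_zpowers x'), rfl⟩ hxZ hxo
  have hZ : (g : G) * k * (g : G)⁻¹ ∈ Z := hle ⟨_, hmem, rfl⟩
  have hne : (g : G) * k * (g : G)⁻¹ ≠ 1 := fun e => hp.ne_one (by
    rw [← hk, ← Subgroup.orderOf_coe]
    rw [mul_inv_eq_one] at e
    simpa using congrArg orderOf (mul_eq_left.1 e))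
  obtain ⟨s, hs, hsM, -⟩ := hM.big
  have hsg : (g : G)⁻¹ * s * g ∈ {s | s ∈ invAt G c ∧ s ∈ M} :=
    ⟨by simpa using h.conj_mem_invAt' (inv_mem g.2.2) hs,
      mul_mem (mul_mem (inv_mem g.2.1) hsM) g.2.1⟩
  have hc : Commute ((g : G) * k * (g : G)⁻¹) s := by
    show (g : G) * k * (g : G)⁻¹ * s = s * ((g : G) * k * (g : G)⁻¹)
    calc (g : G) * k * (g : G)⁻¹ * s = g * (k * ((g : G)⁻¹ * s * g)) * (g : G)⁻¹ := by group
      _ = g * (((g : G)⁻¹ * s * g) * k) * (g : G)⁻¹ := by rw [k.2.2 _ hsg]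
      _ = _ := by group
  exact absurd (h.eq_one_of_commute hZ hne (h.mem_E.2 (Or.inr hs)) hc)
    (fun e => by simpa [e] using hs.1)

/-- An element centralising the involutions of a configuration is the product of an element of `C(R)`
and one of the two point stabiliser centralising the involutions. -/
theorem centF_split (hM : Conf c y Z M) {g : G} (hg : g ∈ centF c M) :
    ∃ u, u ∈ M ∧ u ∈ Q c R ∧ ∃ d, d ∈ M ∧ d ∈ two G c y ∧
      (∀ s ∈ invAt G c, s ∈ M → Commute d s) ∧ g = u * d := by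
  obtain ⟨p, hp, x, hxZ, hxM, hxo⟩ := h.exists_prime hM
  have hxn : x ∈ Subgroup.normalizer (centF c M : Set G) := by
    have key : ∀ g ∈ M ⊓ stabilizer G c, ∀ k ∈ centF c M, g * k * g⁻¹ ∈ centF c M := by
      rintro g hg k ⟨hk, hks⟩
      refine ⟨(M ⊓ stabilizer G c).mul_mem ((M ⊓ stabilizer G c).mul_mem hg hk) ((M ⊓ stabilizer G c).inv_mem hg), fun s hs => ?_⟩
      have hs' : g⁻¹ * s * g ∈ {s | s ∈ invAt G c ∧ s ∈ M} :=
        ⟨by simpa using h.conj_mem_invAt' (inv_mem hg.2) hs.1,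
          mul_mem (mul_mem (inv_mem hg.1) hs.2) hg.1⟩
      calc s * (g * k * g⁻¹) = g * ((g⁻¹ * s * g) * k) * g⁻¹ := by group
        _ = g * (k * (g⁻¹ * s * g)) * g⁻¹ := by rw [hks _ hs']
        _ = _ := by group
    exact (Subgroup.le_normalizer_iff.2 key) ⟨hxM, (h.Z_le hxZ).1⟩
  obtain ⟨u, hu, huQ, d, hd, hd2, -, rfl⟩ := h.invariant hp hxZ hxo
    (inf_le_left.trans inf_le_right) hxn (h.not_dvd_centF hM hp hxZ hxM hxo) hg
  exact ⟨u, hu.1.1, huQ, d, hd.1.1, hd2, fun s hs hsM => (hd.2 s ⟨hs, hsM⟩).symm, rfl⟩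

/-- A `q`-element of the two point stabiliser moving the part of `Z` is centralised by a swapper. -/
theorem exists_swap_commute (hfpf : FullFpf c y R) (hM : Conf c y Z M) {q k : ℕ} [hq : Fact q.Prime] {w : G}
    (hw : w ∈ two G c y) (hwM : w ∈ M) (hwq : w ^ q ^ k = 1) {z : G} (hz : z ∈ Z) (hzM : z ∈ M)
    (hne : ¬ Commute w z) : ∃ s ∈ swaps G c y, s ∈ M ∧ Commute s w := by
  have : Fact (Nat.Prime 2) := ⟨Nat.prime_two⟩
  obtain ⟨t₀, ht₀, ht₀M, -⟩ := hM.big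
  obtain ⟨ρ, hρM, hρ⟩ := h.oneFix.exists_swap_centres (mem_centres ht₀M ht₀) hM.mem_y (Ne.symm h.ne)
  set D : Subgroup G := two G c y ⊓ M with hD
  have hρD : ρ ∈ Subgroup.normalizer (D : Set G) :=
    Subgroup.inf_normalizer_le_normalizer_inf
      ⟨OneFix.swap_normalizes hρ, Subgroup.le_normalizer hρM⟩
  have hDodd : ¬ 2 ∣ Nat.card D := fun e => Nat.not_even_iff_odd.2 h.odd_two
    (even_iff_two_dvd.2 (e.trans (Subgroup.card_dvd_of_le inf_le_left)))
  have hA : IsPGroup 2 (zpowers ρ) :=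
    IsPGroup.of_card (n := 1) (by rw [Nat.card_zpowers, hρ.1, pow_one])
  obtain ⟨S, hS⟩ := Tech46.exists_invariant_sylow hA hDodd (zpowers_le.2 hρD) q
  have hwp : IsPGroup q (zpowers (⟨w, hw, hwM⟩ : D)) := fun v => ⟨k, Subtype.ext (by
    obtain ⟨j, hj⟩ := mem_zpowers_iff.1 v.2
    show ((v : D)) ^ q ^ k = 1
    rw [← hj, ← zpow_natCast, ← zpow_mul, mul_comm, zpow_mul, zpow_natCast,
      show (⟨w, hw, hwM⟩ : D) ^ q ^ k = 1 from Subtype.ext hwq, one_zpow])⟩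
  obtain ⟨S', hS'⟩ := hwp.exists_le_sylow
  obtain ⟨g, hg⟩ := MulAction.exists_smul_eq D S' S
  set S₀ : Subgroup G := (S : Subgroup D).map D.subtype with hS₀
  have hS₀D : S₀ ≤ D := Subgroup.map_subtype_le _
  have hmem : (g : G) * w * (g : G)⁻¹ ∈ S₀ := by
    have : g * (⟨w, hw, hwM⟩ : D) * g⁻¹ ∈ (S : Subgroup D) := by
      rw [← hg, Sylow.coe_subgroup_smul, Subgroup.mem_pointwise_smul_iff_inv_smul_mem]
      simpa [mul_assoc] using hS' (mem_zpowers _)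
    exact ⟨_, this, rfl⟩
  have hS₀p : IsPGroup q S₀ := S.isPGroup'.map _
  obtain ⟨⟨d, hd⟩, hgen⟩ := (h.isCyclic_of_pGroup hfpf (hS₀D.trans inf_le_left) hS₀p).exists_generator
  have hdD := hS₀D hd
  have hmove : ∃ v ∈ Z, v ∈ M ∧ ¬ Commute d v := by
    by_contra hcon
    push Not at hcon
    apply hne
    obtain ⟨i, hi⟩ := mem_zpowers_iff.1 (hgen ⟨_, hmem⟩)
    have hi' : d ^ i = (g : G) * w * (g : G)⁻¹ := congrArg Subtype.val hi
    have hv : (g : G) * z * (g : G)⁻¹ ∈ Z :=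
      (Subgroup.mem_normalizer_iff.1 (h.Z_normal g.2.1) z).1 hz
    have hcc : Commute ((g : G) * w * (g : G)⁻¹) ((g : G) * z * (g : G)⁻¹) :=
      hi' ▸ (hcon _ hv (mul_mem (mul_mem g.2.2 hzM) (inv_mem g.2.2))).zpow_left i
    have h2 := hcc.map (MulAut.conj (g : G)⁻¹).toMonoidHom
    simpa [MulAut.conj_apply, mul_assoc] using h2
  obtain ⟨v, hv, hvM, hdv⟩ := hmove
  have hq2 : q ≠ 2 := by
    rintro rfl
    refine hdv ?_
    have hcard : Nat.card S₀ = 1 := by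
      obtain ⟨n, hn⟩ := IsPGroup.iff_card.1 hS₀p
      rcases Nat.eq_zero_or_pos n with rfl | hn0
      · simpa using hn
      · exact absurd ((hn ▸ dvd_pow_self 2 hn0.ne').trans (Subgroup.card_dvd_of_le hS₀D)) hDodd
    rw [Subgroup.card_eq_one.1 hcard, Subgroup.mem_bot] at hd
    exact hd ▸ Commute.one_left v
  have hρn : ρ * d * ρ⁻¹ ∈ S₀ :=
    (Subgroup.mem_normalizer_iff.1 (hS (mem_zpowers ρ)) d).1 hd
  obtain ⟨i, hi⟩ := mem_zpowers_iff.1 (hgen ⟨_, hρn⟩)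
  have hi' : d ^ i = ρ * d * ρ⁻¹ := congrArg Subtype.val hi
  -- conjugation by `ρ` does not change the action on `Z`
  have hact : Commute (d⁻¹ * (ρ * d * ρ⁻¹)) v := by
    have hv' : d * v * d⁻¹ ∈ Z := (Subgroup.mem_normalizer_iff.1 (h.Z_normal hdD.1) v).1 hv
    have h1 : ρ⁻¹ * v * ρ = v⁻¹ := by
      have h3 := h.Z_inv ρ hρ v⁻¹ (inv_mem hv)
      rw [inv_inv] at h3
      calc ρ⁻¹ * v * ρ = ρ⁻¹ * (ρ * v⁻¹ * ρ⁻¹) * ρ := by rw [h3]
        _ = v⁻¹ := by group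
    have h2 : ρ * (d * v⁻¹ * d⁻¹) * ρ⁻¹ = d * v * d⁻¹ := by
      have h3 := h.Z_inv ρ hρ _ hv'
      calc ρ * (d * v⁻¹ * d⁻¹) * ρ⁻¹ = (ρ * (d * v * d⁻¹) * ρ⁻¹)⁻¹ := by group
        _ = _ := by rw [h3, inv_inv]
    show d⁻¹ * (ρ * d * ρ⁻¹) * v = v * (d⁻¹ * (ρ * d * ρ⁻¹))
    calc d⁻¹ * (ρ * d * ρ⁻¹) * v = d⁻¹ * (ρ * (d * (ρ⁻¹ * v * ρ) * d⁻¹) * ρ⁻¹) * (ρ * d * ρ⁻¹) := by
          group
      _ = d⁻¹ * (d * v * d⁻¹) * (ρ * d * ρ⁻¹) := by rw [h1, h2]
      _ = _ := by group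
  -- so it fixes the generator
  have hρd : Commute ρ d := by
    have hk1 : d⁻¹ * (ρ * d * ρ⁻¹) = d ^ (i - 1) := by
      rw [← hi', zpow_sub_one]
      exact (((Commute.refl d).zpow_right i).inv_left).eq
    rw [hk1] at hact
    obtain ⟨n, hn⟩ := (hS₀p ⟨d, hd⟩)
    have hdn : d ^ q ^ n = 1 := congrArg Subtype.val hn
    have hqi : (q : ℤ) ∣ i - 1 := by
      by_contra hcon
      refine hdv ?_
      obtain ⟨a, b, hab⟩ : IsCoprime (i - 1) ((q : ℤ) ^ n) :=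
        ((Nat.prime_iff_prime_int.1 hq.out).coprime_iff_not_dvd.2 hcon).symm.pow_right
      have : d = (d ^ (i - 1)) ^ a := by
        rw [← zpow_mul, mul_comm]
        conv_lhs => rw [← zpow_one d, ← hab, zpow_add, mul_comm b, zpow_mul d (↑q ^ n),
          show d ^ ((q : ℤ) ^ n) = 1 by exact_mod_cast hdn, one_zpow, mul_one]
      exact this ▸ hact.zpow_left a
    have hsq : d ^ ((i - 1) * (i + 1)) = 1 := by
      have h1 : d ^ (i * i) = d := by
        rw [zpow_mul, hi', conj_zpow, hi']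
        have h2 : ρ * ρ = 1 := mul_self_eq_one hρ.1
        calc ρ * (ρ * d * ρ⁻¹) * ρ⁻¹ = (ρ * ρ) * d * (ρ * ρ)⁻¹ := by group
          _ = d := by rw [h2, one_mul, inv_one, mul_one]
      rw [show (i - 1) * (i + 1) = i * i + (-1) by ring, zpow_add, h1, zpow_neg_one,
        mul_inv_cancel]
    have hq' : ¬ (q : ℤ) ∣ i + 1 := fun e => hq2 (by
      have h2 : (q : ℤ) ∣ (2 : ℕ) := by
        have := dvd_sub e hqi
        rwa [show i + 1 - (i - 1) = ((2 : ℕ) : ℤ) by push_cast; ring] at this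
      exact (Nat.prime_dvd_prime_iff_eq hq.out Nat.prime_two).1 (Int.natCast_dvd_natCast.1 h2))
    obtain ⟨a, b, hab⟩ : IsCoprime (i + 1) ((q : ℤ) ^ n) :=
      ((Nat.prime_iff_prime_int.1 hq.out).coprime_iff_not_dvd.2 hq').symm.pow_right
    have h1 : d ^ (i - 1) = 1 := by
      calc d ^ (i - 1) = d ^ ((i - 1) * (i + 1) * a + (q : ℤ) ^ n * ((i - 1) * b)) := by
            congr 1
            linear_combination (-(i - 1)) * hab
        _ = 1 := by rw [zpow_add, zpow_mul, hsq, one_zpow, one_mul, zpow_mul,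
              show d ^ ((q : ℤ) ^ n) = 1 by exact_mod_cast hdn, one_zpow]
    rw [← hk1, inv_mul_eq_one] at h1
    exact mul_inv_eq_iff_eq_mul.1 h1.symm
  obtain ⟨j, hj⟩ := mem_zpowers_iff.1 (hgen ⟨_, hmem⟩)
  have hj' : d ^ j = (g : G) * w * (g : G)⁻¹ := congrArg Subtype.val hj
  have hρw : Commute ρ ((g : G) * w * (g : G)⁻¹) := hj' ▸ hρd.zpow_right j
  refine ⟨(g : G)⁻¹ * ρ * g, ?_, mul_mem (mul_mem (inv_mem g.2.2) hρM) g.2.2, ?_⟩
  · have h1 := conj_mem_swaps (g := (g : G)⁻¹) hρ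
    rw [inv_inv] at h1
    have hgc : (g : G)⁻¹ • c = c := inv_smul_eq_iff.2 (mem_two_iff.1 g.2.1).1.symm
    have hgy : (g : G)⁻¹ • y = y := inv_smul_eq_iff.2 (mem_two_iff.1 g.2.1).2.symm
    rwa [hgc, hgy] at h1
  · show (g : G)⁻¹ * ρ * g * w = w * ((g : G)⁻¹ * ρ * g)
    calc (g : G)⁻¹ * ρ * g * w = (g : G)⁻¹ * (ρ * ((g : G) * w * (g : G)⁻¹)) * g := by group
      _ = (g : G)⁻¹ * (((g : G) * w * (g : G)⁻¹) * ρ) * g := by rw [hρw.eq]
      _ = _ := by group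

variable [Finite Ω]

/-- The centraliser of a suitable `q`-element of a configuration is a configuration. -/
theorem conf_step (hfpf : FullFpf c y R) (hM : Conf c y Z M) {q k : ℕ} [hq : Fact q.Prime] {w : G}
    (hw : w ∈ two G c y) (hwM : w ∈ M) (hwq : w ^ q ^ k = 1) {z : G} (hz : z ∈ Z) (hzM : z ∈ M)
    (hne : ¬ Commute w z)
    (hbig : ∃ s ∈ invAt G c, s ∈ M ∧ Commute w s ∧
      ∃ t ∈ invAt G c, t ∈ M ∧ Commute w t ∧ s ≠ t) :
    M ⊓ Subgroup.centralizer {w} ≠ ⊤ ∧ FourIn (M ⊓ Subgroup.centralizer {w}) ∧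
      Multi Ω (M ⊓ Subgroup.centralizer {w}) ∧ Conf c y Z (M ⊓ Subgroup.centralizer {w}) := by
  set M' := M ⊓ Subgroup.centralizer {w} with hM'
  have hmem : ∀ g : G, g ∈ M' ↔ g ∈ M ∧ Commute w g := fun g => by
    rw [hM', Subgroup.mem_inf, Subgroup.mem_centralizer_singleton_iff]
    exact and_congr_right fun _ => ⟨fun e => e.symm, fun e => e.symm⟩
  obtain ⟨s, hs, hsM, hws, t, ht, htM, hwt, hst⟩ := hbig
  obtain ⟨ρ, hρ, hρM, hρw⟩ := h.exists_swap_commute hfpf hM hw hwM hwq hz hzM hne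
  have hne' : M' ≠ ⊤ := by
    intro e
    refine hne ?_
    have hall : ∀ g : G, Commute w g := fun g => ((hmem g).1 (e ▸ mem_top g)).2
    exact hall z
  have hc : c ∈ centres Ω M' := mem_centres ((hmem s).2 ⟨hsM, hws⟩) hs
  have hy : y ∈ centres Ω M' := by
    have := smul_mem_centres ((hmem ρ).2 ⟨hρM, hρw.symm⟩) hc
    rwa [hρ.2] at this
  have h4 : FourIn M' :=
    ⟨s, (hmem s).2 ⟨hsM, hws⟩, t, (hmem t).2 ⟨htM, hwt⟩, hs.1, ht.1, hst, h.comm s hs t ht⟩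
  have hMu : Multi Ω M' := ⟨c, hc, y, hy, Ne.symm h.ne⟩
  refine ⟨hne', h4, hMu, ⟨hy, ⟨s, hs, (hmem s).2 ⟨hsM, hws⟩, t, ht, (hmem t).2 ⟨htM, hwt⟩, hst⟩,
    ?_, ?_⟩⟩
  · intro s hs hsM' t ht htM'
    obtain ⟨hsM, hws⟩ := (hmem s).1 hsM'
    obtain ⟨htM, hwt⟩ := (hmem t).1 htM'
    obtain ⟨v, hv, hvM, hvs⟩ := hM.ztrans s hs hsM t ht htM
    refine ⟨v, hv, (hmem v).2 ⟨hvM, ?_⟩, hvs⟩
    have hv' : w * v * w⁻¹ ∈ Z := (Subgroup.mem_normalizer_iff.1 (h.Z_normal hw) v).1 hv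
    have hwvs : Commute w (v * s * v⁻¹) := hvs.symm ▸ hwt
    have hcom : Commute (v⁻¹ * (w * v * w⁻¹)) s := by
      show v⁻¹ * (w * v * w⁻¹) * s = s * (v⁻¹ * (w * v * w⁻¹))
      calc v⁻¹ * (w * v * w⁻¹) * s = v⁻¹ * (w * v) * (w⁻¹ * s) := by group
        _ = v⁻¹ * (w * v) * (s * w⁻¹) := by rw [(hws.inv_left).eq]
        _ = v⁻¹ * (w * (v * s * v⁻¹)) * (v * w⁻¹) := by group
        _ = v⁻¹ * ((v * s * v⁻¹) * w) * (v * w⁻¹) := by rw [hwvs.eq]
        _ = _ := by group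
    by_contra hcon
    refine absurd (h.eq_one_of_commute (mul_mem (inv_mem hv) hv') (fun e => hcon ?_) (Or.inr hs) hcom)
      (fun e => by simpa [e] using hs.1)
    exact mul_inv_eq_iff_eq_mul.1 (inv_mul_eq_one.1 e).symm
  · intro a ha hac
    obtain ⟨hs2, ht2⟩ := (hmem s).1 ((hmem s).2 ⟨hsM, hws⟩), (hmem t).1 ((hmem t).2 ⟨htM, hwt⟩)
    have hS := h.oneFix.oneFix_sect (M := M') hMu
    have hC := concl_of_card_le _ (Sect Ω M') (centres Ω M') le_rfl h.hodd hS (hfaith_sect M')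
      (h.oneFix.hasFour_sect hMu ((hmem s).2 ⟨hsM, hws⟩) ((hmem t).2 ⟨htM, hwt⟩) hs.1 ht.1 hst
        (h.comm s hs t ht))
    obtain ⟨σ, hσc, hσy⟩ := hC.trans2 ⟨c, hc⟩ ⟨y, hy⟩ ⟨a, ha⟩ (fun e => h.ne (congrArg Subtype.val e))
      (fun e => hac (congrArg Subtype.val e))
    obtain ⟨g, rfl⟩ := sect_surjective M' σ
    exact ⟨g, g.2, congrArg Subtype.val hσc, congrArg Subtype.val hσy⟩

/-- Every fixed centre of a suitable `q`-element is a centre of its centraliser. -/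
theorem mem_centres_of_fixed (hfpf : FullFpf c y R) (hM : Conf c y Z M) {q k : ℕ} [hq : Fact q.Prime] {w : G}
    (hw : w ∈ two G c y) (hwM : w ∈ M) (hwq : w ^ q ^ k = 1) {z : G} (hz : z ∈ Z) (hzM : z ∈ M)
    (hne : ¬ Commute w z) {s : G} (hs : s ∈ invAt G c) (hsM : s ∈ M) (hws : Commute w s)
    {a : Ω} (ha : a ∈ centres Ω M) (hac : a ≠ c) (hwa : w • a = a) :
    a ∈ centres Ω (M ⊓ Subgroup.centralizer {w}) := by
  obtain ⟨g, hgM, hgc, hgy⟩ := hM.trans a ha hac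
  have hgT : g ∈ stabilizer G c := hgc
  have hgiy : g⁻¹ • a = y := inv_smul_eq_iff.2 hgy.symm
  set w' := g⁻¹ * w * g with hw'
  have hw2 : w' ∈ two G c y := mem_two_iff.2
    ⟨by rw [hw', mul_smul, mul_smul, hgc, (mem_two_iff.1 hw).1, inv_smul_eq_iff, hgc],
      by rw [hw', mul_smul, mul_smul, hgy, hwa, hgiy]⟩
  have hw'M : w' ∈ M := mul_mem (mul_mem (inv_mem hgM) hwM) hgM
  have hw'q : w' ^ q ^ k = 1 := by
    have := conj_pow (i := q ^ k) (a := g⁻¹) (b := w)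
    rw [inv_inv] at this
    rw [hw', this, hwq, mul_one, inv_mul_cancel]
  obtain ⟨v, hv, hvM, hw'v⟩ : ∃ v ∈ Z, v ∈ M ∧ ¬ Commute w' v := by
    by_contra hcon
    push Not at hcon
    refine hne (h.commute_of_cent hM hw hwM (fun t ht htM => ?_) hz hzM)
    have hqZ := h.not_dvd_Z (M := M) hq.out hw hwq hz hne
    have hcop : (orderOf w').Coprime (Nat.card (Z ⊓ M : Subgroup G)) :=
      Nat.Coprime.coprime_dvd_left (orderOf_dvd_of_pow_eq_one hw'q)
        (Nat.Coprime.pow_left k ((Nat.Prime.coprime_iff_not_dvd hq.out).2 hqZ))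
    have h1 := h.cent_of_commute hM hw2 hw'M hcop hcon
      (show g⁻¹ * t * g ∈ invAt G c by simpa using h.conj_mem_invAt' (inv_mem hgT) ht)
      (mul_mem (mul_mem (inv_mem hgM) htM) hgM)
    have h2 := h1.map (MulAut.conj g).toMonoidHom
    simpa [hw', MulAut.conj_apply, mul_assoc] using h2
  obtain ⟨ρ, hρ, hρM, hρw⟩ := h.exists_swap_commute hfpf hM hw2 hw'M hw'q hv hvM hw'v
  have hρ' : g * ρ * g⁻¹ ∈ swaps G c a := by
    have := conj_mem_swaps (g := g) hρ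
    rwa [hgc, hgy] at this
  have hmem : g * ρ * g⁻¹ ∈ M ⊓ Subgroup.centralizer {w} := by
    refine ⟨M.mul_mem (M.mul_mem hgM hρM) (M.inv_mem hgM), Subgroup.mem_centralizer_singleton_iff.2 ?_⟩
    calc g * ρ * g⁻¹ * w = g * (ρ * w') * g⁻¹ := by rw [hw']; group
      _ = g * (w' * ρ) * g⁻¹ := by rw [hρw.eq]
      _ = _ := by rw [hw']; group
  have hsmem : s ∈ M ⊓ Subgroup.centralizer {w} :=
    ⟨hsM, Subgroup.mem_centralizer_singleton_iff.2 hws.eq.symm⟩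
  have := smul_mem_centres hmem (mem_centres hsmem hs)
  rwa [hρ'.2] at this

end Setting

end CfsgLib.CoreSplit
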