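import Cfsg.Agent.Lib.CoreSplit.Split

/-!
The exceptional case: an element of prime order of the two point stabiliser that is not known to act
without fixed points centralises at most one of the involutions, so these form, with the identity,
a group of that prime rank.
-/

set_option autoImplicit false

namespace CfsgLib.CoreSplit

open CfsgLib.BenderTrans MulAction Subgroup

universe u

variable {G : Type u} [Group G] {Ω : Type u} [MulAction G Ω]

/-- An element of prime order, prime to the cyclic Hall subgroup, centralising at most one involution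
with centre `c`, these being `2 ^ q - 1` in number. -/
def Exceptional (c y : Ω) (Z : Subgroup G) (q : ℕ) (d : G) : Prop :=
  q.Prime ∧ q ≠ 2 ∧ d ∈ two G c y ∧ orderOf d = q ∧ ¬ q ∣ Nat.card Z ∧
    (∀ s ∈ invAt G c, ∀ t ∈ invAt G c, Commute d s → Commute d t → s = t) ∧
    (invAt G c).ncard + 1 = 2 ^ q

namespace Setting

variable {c y : Ω} {R Z : Subgroup G} {r : ℕ} (h : Setting c y R Z r) [Finite G] [Finite Ω]
include h

omit [Finite Ω] in
theorem card_E : Nat.card h.E = (invAt G c).ncard + 1 := by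
  show Nat.card ↥(insert (1 : G) (invAt G c)) = _
  rw [Nat.card_coe_set_eq, Set.ncard_insert_of_notMem (fun e => by simpa using e.1)]

theorem exceptional_of_not_full (hnot : ¬ FullFpf c y R) :
    ∃ q d, Exceptional c y Z q d := by
  unfold FullFpf at hnot
  push Not at hnot
  obtain ⟨e, he, he1, a, ha, hea, ha1⟩ := hnot
  have hne : orderOf e ≠ 1 := fun e1 => he1 (orderOf_eq_one_iff.1 e1)
  obtain ⟨q, hq, hqe⟩ := Nat.exists_prime_and_dvd hne
  have : Fact q.Prime := ⟨hq⟩
  set d := e ^ (orderOf e / q) with hd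
  have hdo : orderOf d = q := by
    have hdd : orderOf e / q ∣ orderOf e := Nat.div_dvd_of_dvd hqe
    rw [hd, orderOf_pow_of_dvd (Nat.div_pos (Nat.le_of_dvd (orderOf_pos e) hqe) hq.pos).ne' hdd]
    exact Nat.div_div_self hqe (orderOf_pos e).ne'
  have hd2 : d ∈ two G c y := pow_mem he _
  have hd1 : d ≠ 1 := fun e1 => hq.ne_one (by rw [← hdo, e1, orderOf_one])
  have hda : Commute d a := hea.pow_left _
  have hpair : ∀ s ∈ invAt G c, ∀ t ∈ invAt G c, Commute d s → Commute d t → s = t := by
    intro s hs t ht hds hdt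
    by_contra hst
    exact ha1 (h.fpf_pair d hd2 (hdo ▸ hq) s hs t ht hst hds hdt a ha hda)
  have hqZ : ¬ q ∣ Nat.card Z := by
    intro hdvd
    haveI : (Z.subgroupOf (two G c y)).Normal :=
      Subgroup.normal_subgroupOf_iff_le_normalizer h.Z_le |>.2 h.Z_normal
    have h1 : d ^ Z.relIndex (two G c y) ∈ Z :=
      Subgroup.pow_index_mem (Z.subgroupOf (two G c y)) (⟨d, hd2⟩ : two G c y)
    obtain ⟨n, hn⟩ := exists_pow_eq_self_of_coprime (x := d) (n := Z.relIndex (two G c y)) (by
      rw [hdo]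
      exact ((Nat.Prime.coprime_iff_not_dvd hq).2 (h.Z_hall q hq (h.Z_primes q hq hdvd))).symm)
    exact ha1 (h.fpf_Z d (hn ▸ pow_mem h1 n) hd1 a ha hda)
  have hq2 : q ≠ 2 := fun e2 => by
    have hodd := h.odd_two.of_dvd_nat (Subgroup.orderOf_dvd_natCard _ hd2)
    rw [hdo, e2] at hodd
    exact absurd hodd (by decide)
  obtain ⟨s₁, t₁, hs₁, ht₁, hst, -⟩ := h.oneFix.exists_invAt_ne h.four c
  have hM := h.conf_top
  have hcop : (orderOf d).Coprime (Nat.card (Z ⊓ ⊤ : Subgroup G)) := by
    rw [hdo, inf_top_eq]; exact (Nat.Prime.coprime_iff_not_dvd hq).2 hqZ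
  obtain ⟨z, hz, hdz⟩ : ∃ z ∈ Z, ¬ Commute d z := by
    by_contra hcon
    push Not at hcon
    exact hst (hpair s₁ hs₁ t₁ ht₁
      (h.cent_of_commute hM hd2 (mem_top d) hcop (fun z hz _ => hcon z hz) hs₁ (mem_top _))
      (h.cent_of_commute hM hd2 (mem_top d) hcop (fun z hz _ => hcon z hz) ht₁ (mem_top _)))
  have hdq : d ^ q = 1 := by rw [← hdo, pow_orderOf_eq_one]
  have hcard := h.card_of_small (k := 1) (q := q) hM hd2 (mem_top d) (by rw [pow_one]; exact hdq)
    hz (mem_top z) hdz (fun v _ _ => by rw [hdq]; exact Commute.one_left v)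
    (fun ⟨s, hs, _, hds, t, ht, _, hdt, hne⟩ => hne (hpair s hs t ht hds hdt))
  rw [inf_top_eq, h.card_E] at hcard
  exact ⟨q, d, hq, hq2, hd2, hdo, hqZ, hpair, hcard⟩

end Setting

end CfsgLib.CoreSplit
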