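import Cfsg.Agent.Lib.CoreSplit.ExcKernel
import Cfsg.Agent.Lib.RankOneTwo.Main

/-!
The semiregular setting is contradictory, given the faithful exceptional case.
-/

set_option autoImplicit false

namespace CfsgLib.CoreSplit

open CfsgLib.BenderTrans MulAction CfsgLib.Involutions

universe u

variable {G : Type u} [Group G] [Finite G] {Ω : Type u} [MulAction G Ω] [Finite Ω]

theorem Setting.contradiction {c y : Ω} {R Z : Subgroup G} {r : ℕ} (h : Setting c y R Z r)
    (hB : DecompFaithful.{u}) : False := by
  haveI : FaithfulSMul G Ω := ⟨fun {a b} hab => by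
    have h1 := h.faith (b⁻¹ * a) fun x => by rw [mul_smul, hab x, inv_smul_smul]
    exact (inv_mul_eq_one.1 h1).symm⟩
  refine h.false_of_decompFaithful hB fun t hS => ?_
  obtain ⟨x, y, hx, hy, hne, hc⟩ := h.four
  exact RankOneTwo.isPGroup_two_Q hS ⟨x, y, ne_one_of_involution hx, ne_one_of_involution hy, hne,
    mul_self_eq_one hx, mul_self_eq_one hy, hc.eq⟩

end CfsgLib.CoreSplit
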