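import Cfsg.Agent.Lib.CoreSplit.Basic
import Cfsg.Agent.Lib.Structure.FpfModule
import Cfsg.Agent.Lib.Solvable.Fitting
import Cfsg.Agent.Lib.Coprime.Commutator
import Cfsg.Agent.Lib.Tech46.CoprimeGen

/-!
Subgroups of the point stabiliser that are invariant under an element of prime order of the cyclic
Hall subgroup and have order prime to it are made up of a part centralising the minimal normal
subgroup and a part centralising that element.
-/

set_option autoImplicit false

namespace CfsgLib.CoreSplit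

open CfsgLib.BenderTrans MulAction Subgroup
open scoped Pointwise commutatorElement

universe u

namespace Setting

variable {G : Type u} [Group G] {Ω : Type u} [MulAction G Ω] {c y : Ω} {R Z : Subgroup G} {r : ℕ}
  (h : Setting c y R Z r)
include h

/-- The subgroup `R` is elementary abelian. -/
theorem R_elem [Finite G] : IsMulCommutative R ∧ ∀ a ∈ R, a ^ r = 1 := by
  have : Fact r.Prime := ⟨h.prime⟩
  have : Nontrivial R := (Subgroup.nontrivial_iff_ne_bot R).2 h.R_ne
  set C : Subgroup R := Subgroup.center R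
  -- the elements of order dividing `r` in the centre
  let S : Subgroup G :=
    { carrier := {a | a ∈ R ∧ (∀ b ∈ R, b * a = a * b) ∧ a ^ r = 1}
      one_mem' := ⟨one_mem _, fun b _ => by simp, one_pow r⟩
      mul_mem' := fun {a b} ha hb => ⟨mul_mem ha.1 hb.1, fun x hx => by
          rw [← mul_assoc, ha.2.1 x hx, mul_assoc, hb.2.1 x hx, ← mul_assoc],
        by rw [Commute.mul_pow (hb.2.1 a ha.1), ha.2.2, hb.2.2, one_mul]⟩
      inv_mem' := fun {a} ha => ⟨inv_mem ha.1, fun x hx => (Commute.inv_right (ha.2.1 x hx)).eq,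
        by rw [inv_pow, ha.2.2, inv_one]⟩ }
  have hSn : stabilizer G c ≤ Subgroup.normalizer (S : Set G) := by
    refine Subgroup.le_normalizer_iff.2 fun g hg a ha => ?_
    obtain ⟨haR, hac, har⟩ := ha
    refine ⟨(Subgroup.mem_normalizer_iff.1 (h.R_normal hg) a).1 haR, fun x hx => ?_, ?_⟩
    · have hx' : g⁻¹ * x * g ∈ R := by
        simpa using (Subgroup.mem_normalizer_iff.1 (h.R_normal (inv_mem hg)) x).1 hx
      calc x * (g * a * g⁻¹) = g * (g⁻¹ * x * g * a) * g⁻¹ := by group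
        _ = g * (a * (g⁻¹ * x * g)) * g⁻¹ := by rw [hac _ hx']
        _ = _ := by group
    · rw [conj_pow, har, mul_one, mul_inv_cancel]
  have hSne : S ≠ ⊥ := by
    have hC : Nontrivial C := h.R_pGroup.center_nontrivial
    obtain ⟨n, hn, hcard⟩ := (IsPGroup.nontrivial_iff_card (h.R_pGroup.to_subgroup C)).1 hC
    obtain ⟨a, ha⟩ := exists_prime_orderOf_dvd_card' (G := C) r (hcard ▸ dvd_pow_self r hn.ne')
    have hao : orderOf (((a : R) : G)) = r := by rw [Subgroup.orderOf_coe, Subgroup.orderOf_coe, ha]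
    refine (Subgroup.ne_bot_iff_exists_ne_one).2 ⟨⟨((a : R) : G), (a : R).2, fun b hb =>
      congrArg Subtype.val (Subgroup.mem_center_iff.1 a.2 ⟨b, hb⟩), by
        rw [← hao, pow_orderOf_eq_one]⟩, fun e => ?_⟩
    exact h.prime.ne_one (by rw [← hao, congrArg Subtype.val e]; exact orderOf_one)
  have hSR : S = R := (h.R_min S (fun a ha => ha.1) hSn).resolve_left hSne
  refine ⟨⟨⟨fun a b => Subtype.ext ?_⟩⟩, fun a ha => (hSR.symm ▸ ha : a ∈ S).2.2⟩
  exact (hSR.symm ▸ b.2 : (b : G) ∈ S).2.1 a a.2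

/-- The action of the point stabiliser on `R`. -/
noncomputable def autR : ↥(stabilizer G c) →* MulAut R :=
  R.normalizerMonoidHom.comp (Subgroup.inclusion h.R_normal)

theorem autR_apply (g : ↥(stabilizer G c)) (a : R) :
    ((h.autR g a : R) : G) = (g : G) * (a : G) * (g : G)⁻¹ := rfl

theorem autR_eq_one (g : ↥(stabilizer G c)) : h.autR g = 1 ↔ (g : G) ∈ Q c R := by
  constructor
  · refine fun hg => ⟨g.2, fun a ha => ?_⟩
    have := congrArg Subtype.val (DFunLike.congr_fun hg ⟨a, ha⟩)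
    rw [h.autR_apply] at this
    exact (mul_inv_eq_iff_eq_mul.1 this).symm
  · refine fun hg => MulEquiv.ext fun a => Subtype.ext ?_
    rw [h.autR_apply]
    exact mul_inv_eq_iff_eq_mul.2 (hg.2 a a.2).symm

variable [Finite G]

/-- A normal `r`-subgroup of the group induced on `R` is trivial. -/
theorem eq_bot_of_rGroup {N : Subgroup (MulAut R)} (hN : IsPGroup r N)
    (hnorm : ∀ g : ↥(stabilizer G c), ∀ n ∈ N, h.autR g * n * (h.autR g)⁻¹ ∈ N) : N = ⊥ := by
  have : Fact r.Prime := ⟨h.prime⟩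
  have : Nontrivial R := (Subgroup.nontrivial_iff_ne_bot R).2 h.R_ne
  let Fx : Subgroup R :=
    { carrier := {a | ∀ n ∈ N, n a = a}
      one_mem' := fun n _ => map_one n
      mul_mem' := fun {a b} ha hb n hn => by rw [map_mul, ha n hn, hb n hn]
      inv_mem' := fun {a} ha n hn => by rw [map_inv, ha n hn] }
  have hne : Fx.map R.subtype ≠ ⊥ := by
    intro e
    have e1 : Fx = ⊥ := (Subgroup.map_eq_bot_iff_of_injective Fx R.subtype_injective).1 e
    obtain ⟨n, hn, hcard⟩ := (IsPGroup.nontrivial_iff_card h.R_pGroup).1 inferInstance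
    have hmod := hN.card_modEq_card_fixedPoints R
    have hfix : Nat.card (MulAction.fixedPoints N R) = 1 := by
      rw [Nat.card_eq_one_iff_unique]
      refine ⟨⟨fun a b => Subtype.ext ?_⟩, ⟨⟨1, fun n => map_one (n : MulAut R)⟩⟩⟩
      have hmem : ∀ a : MulAction.fixedPoints N R, (a : R) = 1 := fun a => by
        have : (a : R) ∈ Fx := fun n hn => a.2 ⟨n, hn⟩
        rwa [e1, Subgroup.mem_bot] at this
      rw [hmem a, hmem b]
    rw [hfix, hcard] at hmod
    have h0 : r ^ n % r = 0 := Nat.mod_eq_zero_of_dvd (dvd_pow_self r hn.ne')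
    rw [Nat.ModEq, h0, Nat.mod_eq_of_lt h.prime.one_lt] at hmod
    exact zero_ne_one hmod
  have hle : Fx.map R.subtype ≤ R := Subgroup.map_subtype_le Fx
  have hn : stabilizer G c ≤ Subgroup.normalizer ((Fx.map R.subtype : Subgroup G) : Set G) := by
    refine Subgroup.le_normalizer_iff.2 fun g hg x hx => ?_
    obtain ⟨a, ha, rfl⟩ := hx
    refine ⟨h.autR ⟨g, hg⟩ a, fun n hn => ?_, h.autR_apply ⟨g, hg⟩ a⟩
    have h1 := ha _ (hnorm ⟨g, hg⟩⁻¹ n hn)
    rw [map_inv, inv_inv, MulAut.mul_apply, MulAut.mul_apply] at h1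
    have h2 := congrArg (h.autR ⟨g, hg⟩) h1
    rwa [MulAut.apply_inv_self] at h2
  have hFx := (h.R_min _ hle hn).resolve_left hne
  rw [eq_bot_iff]
  intro n hn'
  refine Subgroup.mem_bot.2 (MulEquiv.ext fun a => ?_)
  have : (a : G) ∈ Fx.map R.subtype := hFx.symm ▸ a.2
  obtain ⟨b, hb, hba⟩ := this
  rw [← R.subtype_injective hba]
  exact hb n hn'

/-- The involutions with centre `c` form an elementary abelian group. -/
theorem E_sq {e : G} (he : e ∈ h.E) : e ^ 2 = 1 := by
  rcases h.mem_E.1 he with rfl | he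
  · exact one_pow 2
  · rw [← he.1, pow_orderOf_eq_one]

theorem isMulCommutative_E : IsMulCommutative h.E := by
  refine ⟨⟨fun a b => Subtype.ext ?_⟩⟩
  rcases h.mem_E.1 a.2 with ha | ha
  · show (a : G) * b = b * a
    rw [ha, one_mul, mul_one]
  rcases h.mem_E.1 b.2 with hb | hb
  · show (a : G) * b = b * a
    rw [hb, one_mul, mul_one]
  exact h.comm _ ha _ hb

theorem mem_two_Z {x : G} (hxZ : x ∈ Z) : x ∈ two G c y := h.Z_le hxZ

theorem prime_ne {p : ℕ} (hp : p.Prime) {x : G} (hxZ : x ∈ Z) (hxo : orderOf x = p) :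
    p ≠ r ∧ p ≠ 2 := by
  have hd : p ∣ Nat.card (two G c y) := hxo ▸ by
    simpa using orderOf_dvd_natCard (⟨x, h.Z_le hxZ⟩ : two G c y)
  refine ⟨fun e => h.r_not_dvd (e ▸ h.Z_primes p hp (hxo ▸ Subgroup.orderOf_dvd_natCard Z hxZ)),
    fun e => ?_⟩
  exact Nat.not_even_iff_odd.2 h.odd_two (even_iff_two_dvd.2 (e ▸ hd))

/-- The centraliser of `E` in the point stabiliser has order prime to the primes of `Z`. -/
theorem not_dvd_centralizer_E {p : ℕ} (hp : p.Prime) {x : G} (hxZ : x ∈ Z) (hxo : orderOf x = p) :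
    ¬ p ∣ Nat.card (stabilizer G c ⊓ Subgroup.centralizer (h.E : Set G) : Subgroup G) := by
  intro hd
  have : Fact p.Prime := ⟨hp⟩
  set K := stabilizer G c ⊓ Subgroup.centralizer (h.E : Set G) with hK
  obtain ⟨k, hk⟩ := exists_prime_orderOf_dvd_card' (G := K) p hd
  set T := stabilizer G c with hT
  let x' : T := ⟨x, (h.Z_le hxZ).1⟩
  let k' : T := ⟨k, k.2.1⟩
  have hx' : orderOf x' = p := by rw [← Subgroup.orderOf_coe]; exact hxo
  have hk' : orderOf k' = p := by rw [← Subgroup.orderOf_coe]; exact (Subgroup.orderOf_coe k).trans hk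
  have hpg : ∀ g : T, orderOf g = p → IsPGroup p (zpowers g) := fun g hg =>
    IsPGroup.of_card (n := 1) (by rw [Nat.card_zpowers, hg, pow_one])
  obtain ⟨P, hP⟩ := (hpg x' hx').exists_le_sylow
  obtain ⟨P', hP'⟩ := (hpg k' hk').exists_le_sylow
  obtain ⟨g, hg⟩ := MulAction.exists_smul_eq T P' P
  have hmem : g * k' * g⁻¹ ∈ (P : Subgroup T) := by
    rw [← hg, Sylow.coe_subgroup_smul, Subgroup.mem_pointwise_smul_iff_inv_smul_mem]
    simpa [mul_assoc] using hP' (mem_zpowers k')
  have hle := h.pGroup_le_Z (P := (P : Subgroup T).map T.subtype) (P.isPGroup'.map _)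
    (Subgroup.map_subtype_le _) ⟨x', hP (mem_zpowers x'), rfl⟩ hxZ hxo
  have hZ : (g : G) * k * (g : G)⁻¹ ∈ Z := hle ⟨_, hmem, rfl⟩
  have hne : (g : G) * k * (g : G)⁻¹ ≠ 1 := fun e => hp.ne_one (by
    rw [← hk, ← Subgroup.orderOf_coe]
    rw [mul_inv_eq_one] at e
    simpa using congrArg orderOf (mul_eq_left.1 e))
  obtain ⟨s, t, hs, ht, hst, -⟩ := h.oneFix.exists_invAt_ne h.four c
  have hsE : (g : G)⁻¹ * s * g ∈ h.E := by
    simpa using (Subgroup.mem_normalizer_iff.1 (h.le_normalizer_E (inv_mem g.2)) s).1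
      (h.mem_E.2 (Or.inr hs))
  have hc : Commute ((g : G) * k * (g : G)⁻¹) s := by
    show (g : G) * k * (g : G)⁻¹ * s = s * ((g : G) * k * (g : G)⁻¹)
    calc (g : G) * k * (g : G)⁻¹ * s = g * (k * ((g : G)⁻¹ * s * g)) * (g : G)⁻¹ := by group
      _ = g * (((g : G)⁻¹ * s * g) * k) * (g : G)⁻¹ := by rw [k.2.2 _ hsE]
      _ = _ := by group
  have := h.eq_one_of_commute hZ hne (h.mem_E.2 (Or.inr hs)) hc
  exact absurd (this ▸ hs.1) (by simp)

/-- Invariant `2`-subgroups centralise `R`. -/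
theorem two_group_le_Q {p : ℕ} (hp : p.Prime) {x : G} (hxZ : x ∈ Z) (hxo : orderOf x = p)
    {S : Subgroup G} (hST : S ≤ stabilizer G c) (hS : IsPGroup 2 S)
    (hxS : x ∈ Subgroup.normalizer (S : Set G)) : S ≤ Q c R := by
  have hx1 : x ≠ 1 := fun e => hp.ne_one (by rw [← hxo, e, orderOf_one])
  have hfix : ∀ a ∈ R, Commute x a → a = 1 := fun a ha hc => h.fpf_Z x hxZ hx1 a ha hc
  have hL : S ⊔ zpowers x ≤ Subgroup.normalizer (R : Set G) :=
    sup_le (hST.trans h.R_normal) (zpowers_le.2 (h.R_normal (h.Z_le hxZ).1))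
  have : Fact r.Prime := ⟨h.prime⟩
  haveI : Group.IsNilpotent R := h.R_pGroup.isNilpotent
  have : Fact (Nat.Prime 2) := ⟨Nat.prime_two⟩
  have hSx : ∀ u ∈ S, Commute x u → u = 1 := by
    intro u hu hc
    by_contra hu1
    have hu2 := h.mem_two_of_commute (hST hu) hxZ hx1 hc
    obtain ⟨k, hk⟩ := hS ⟨u, hu⟩
    have ho : orderOf u ∣ 2 ^ k := orderOf_dvd_of_pow_eq_one (congrArg Subtype.val hk)
    have hodd : Odd (orderOf u) := h.odd_two.of_dvd_nat (by
      simpa using orderOf_dvd_natCard (⟨u, hu2⟩ : two G c y))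
    exact hu1 (orderOf_eq_one_iff.1 (Nat.eq_one_of_dvd_coprimes
      (Nat.Coprime.pow_right k (Nat.coprime_two_right.2 hodd)) dvd_rfl ho))
  obtain ⟨n, hn⟩ := IsPGroup.iff_card.1 h.R_pGroup
  obtain ⟨k, hk⟩ := IsPGroup.iff_card.1 hS
  have hcop : (Nat.card R).Coprime (Nat.card S * p) := by
    rw [hn, hk]
    refine Nat.Coprime.pow_left _ (Nat.Coprime.mul_right (Nat.Coprime.pow_right _ ?_) ?_)
    · exact (Nat.coprime_primes h.prime Nat.prime_two).2 h.r_ne
    · exact (Nat.coprime_primes h.prime hp).2 (h.prime_ne hp hxZ hxo).1.symm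
  exact fun g hg => ⟨hST hg, centralizes_of_fpf hp hxo hxS hSx hL inferInstance hcop hfix hg⟩

/-- The commutators of an invariant `q`-subgroup with `x` centralise `R`, for `q ≠ r`. -/
theorem commutator_le_Q_of_ne {p : ℕ} (hp : p.Prime) {x : G} (hxZ : x ∈ Z) (hxo : orderOf x = p)
    {q : ℕ} [hq : Fact q.Prime] (hqp : q ≠ p) (hqr : q ≠ r) {S : Subgroup G}
    (hST : S ≤ stabilizer G c) (hS : IsPGroup q S) (hxS : x ∈ Subgroup.normalizer (S : Set G)) :
    ⁅S, zpowers x⁆ ≤ Q c R := by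
  have hxT : x ∈ stabilizer G c := (h.Z_le hxZ).1
  have hA : zpowers x ≤ Subgroup.normalizer (S : Set G) := zpowers_le.2 hxS
  have hleS : ⁅S, zpowers x⁆ ≤ S := Coprime.commutator_le_of_normalizes hA
  refine fun g hg => ⟨hST (hleS hg), ?_⟩
  have hx1 : x ≠ 1 := fun e => hp.ne_one (by rw [← hxo, e, orderOf_one])
  have hfix : ∀ a ∈ R, Commute x a → a = 1 := fun a ha hc => h.fpf_Z x hxZ hx1 a ha hc
  have hL : S ⊔ zpowers x ≤ Subgroup.normalizer (R : Set G) :=
    sup_le (hST.trans h.R_normal) (zpowers_le.2 (h.R_normal hxT))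
  have : Fact r.Prime := ⟨h.prime⟩
  obtain ⟨hRc, hRr⟩ := h.R_elem
  by_cases hq2 : q = 2
  · exact (h.two_group_le_Q hp hxZ hxo hST (hq2 ▸ hS) hxS (hleS hg)).2
  · have : Fact p.Prime := ⟨hp⟩
    haveI := hRc
    have hcard : Nat.card (zpowers x) = p := by rw [Nat.card_zpowers, hxo]
    exact Structure.commutator_le_centralizer_of_fpf_exc r R (Ne.symm hqp) (h.prime_ne hp hxZ hxo).1
      hqr S (zpowers x) hS hcard hRr (fun e => absurd e hq2) hA hL (eq_bot_iff.2 fun a ha =>
        hfix a ha.1 (ha.2 x (mem_zpowers x))) hg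

/-- The commutators of the centraliser of `E` with `x` centralise `R`. -/
theorem commutator_centralizer_E {p : ℕ} (hp : p.Prime) {x : G} (hxZ : x ∈ Z) (hxo : orderOf x = p) :
    ⁅stabilizer G c ⊓ Subgroup.centralizer (h.E : Set G), zpowers x⁆ ≤ Q c R := by
  have : Fact p.Prime := ⟨hp⟩
  set T := stabilizer G c with hT
  set K := T ⊓ Subgroup.centralizer (h.E : Set G) with hK
  have hxT : x ∈ T := (h.Z_le hxZ).1
  have hTK : T ≤ Subgroup.normalizer (K : Set G) := by
    refine Subgroup.le_normalizer_iff.2 fun g hg k hk => ⟨T.mul_mem (T.mul_mem hg hk.1) (T.inv_mem hg),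
      fun e he => ?_⟩
    have he' : g⁻¹ * e * g ∈ h.E := by
      simpa using (Subgroup.mem_normalizer_iff.1 (h.le_normalizer_E (inv_mem hg)) e).1 he
    calc e * (g * k * g⁻¹) = g * ((g⁻¹ * e * g) * k) * g⁻¹ := by group
      _ = g * (k * (g⁻¹ * e * g)) * g⁻¹ := by rw [hk.2 _ he']
      _ = _ := by group
  have hpK := h.not_dvd_centralizer_E hp hxZ hxo
  have hE2 : 2 ∣ Nat.card h.E := by
    obtain ⟨s, t, hs, ht, hst, -⟩ := h.oneFix.exists_invAt_ne h.four c
    exact hs.1 ▸ by simpa using orderOf_dvd_natCard (⟨s, h.mem_E.2 (Or.inr hs)⟩ : h.E)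
  -- the group induced on `R`
  let K' : Subgroup T := K.subgroupOf T
  let f := h.autR
  let Kb : Subgroup (MulAut R) := K'.map f
  set xb : MulAut R := f ⟨x, hxT⟩ with hxb
  have hK'card : Nat.card K' = Nat.card K :=
    Nat.card_congr (Subgroup.subgroupOfEquivOfLe inf_le_left).toEquiv
  have hpKb : ¬ p ∣ Nat.card Kb := fun e =>
    hpK (hK'card ▸ e.trans (Subgroup.card_map_dvd K' f))
  have hK'n : ∀ g : T, ∀ k ∈ K', g * k * g⁻¹ ∈ K' := fun g k hk =>
    Subgroup.mem_subgroupOf.2 ((Subgroup.mem_normalizer_iff.1 (hTK g.2) _).1 hk)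
  have hKbn : ∀ g : T, ∀ k ∈ Kb, f g * k * (f g)⁻¹ ∈ Kb := by
    rintro g _ ⟨k, hk, rfl⟩
    exact ⟨g * k * g⁻¹, hK'n g k hk, by simp [map_mul]⟩
  set Ab := zpowers xb with hAb
  have hAbK : Ab ≤ Subgroup.normalizer (Kb : Set (MulAut R)) := by
    refine zpowers_le.2 ?_
    refine Subgroup.mem_normalizer_iff.2 fun k => ⟨hKbn _ k, fun hk => ?_⟩
    have := hKbn (⟨x, hxT⟩⁻¹) _ hk
    simpa [map_inv, mul_assoc, hxb, f] using this
  -- `x` centralises the cores of the image
  have hA' : IsPGroup p (zpowers (⟨x, hxT⟩ : T)) :=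
    IsPGroup.of_card (n := 1) (by rw [Nat.card_zpowers, ← Subgroup.orderOf_coe, pow_one]; exact hxo)
  have hA'K : zpowers (⟨x, hxT⟩ : T) ≤ Subgroup.normalizer (K' : Set T) :=
    Subgroup.le_normalizer_iff.2 fun g _ k hk => hK'n g k hk
  haveI hKbsol : Group.IsSolvable Kb := by
    refine h.hodd Kb inferInstance inferInstance (Nat.not_even_iff_odd.1 fun he => ?_)
    have : Fact (Nat.Prime 2) := ⟨Nat.prime_two⟩
    obtain ⟨S, hS⟩ := Tech46.exists_invariant_sylow hA' (hK'card ▸ hpK) hA'K 2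
    set S₁ : Subgroup T := (S : Subgroup K').map K'.subtype with hS₁
    have hle := h.two_group_le_Q hp hxZ hxo (S := S₁.map T.subtype) (Subgroup.map_subtype_le S₁)
      ((S.isPGroup'.map _).map _)
      (Subgroup.le_normalizer_map T.subtype ⟨⟨x, hxT⟩, hS (mem_zpowers _), rfl⟩)
    have hbot : (S.mapSurjective (f.subgroupMap_surjective K') : Subgroup Kb) = ⊥ := by
      rw [eq_bot_iff]
      rintro _ ⟨s, hs, rfl⟩
      exact Subgroup.mem_bot.2 (Subtype.ext
        ((h.autR_eq_one _).2 (hle ⟨(s : T), ⟨s, hs, rfl⟩, rfl⟩)))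
    have hcard := (S.mapSurjective (f.subgroupMap_surjective K')).card_eq_multiplicity
    rw [hbot, Subgroup.card_bot] at hcard
    exact absurd hcard.symm (Nat.one_lt_pow
      (Nat.pos_iff_ne_zero.1 (Nat.prime_two.factorization_pos_of_dvd Nat.card_pos.ne'
        (even_iff_two_dvd.1 he))) Nat.one_lt_two).ne'
  have hcore : ∀ q : ℕ, q.Prime → ∀ k ∈ (Cfsg.pCore q Kb).map Kb.subtype, xb * k = k * xb := by
    intro q hq k hk
    have : Fact q.Prime := ⟨hq⟩
    by_cases hqr : q = r
    · subst hqr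
      have : (Cfsg.pCore q Kb).map Kb.subtype = ⊥ := by
        refine h.eq_bot_of_rGroup ((Fitting.pCore_isPGroup q).map _) fun g n hn => ?_
        obtain ⟨n', hn', rfl⟩ := hn
        let φ : MulAut Kb :=
          { toFun := fun k => ⟨f g * (k : MulAut R) * (f g)⁻¹, hKbn g k k.2⟩
            invFun := fun k => ⟨(f g)⁻¹ * (k : MulAut R) * f g, by
              simpa [map_inv] using hKbn g⁻¹ k k.2⟩
            left_inv := fun k => Subtype.ext (by simp [mul_assoc])
            right_inv := fun k => Subtype.ext (by simp [mul_assoc])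
            map_mul' := fun a b => Subtype.ext (by simp [mul_assoc]) }
        refine ⟨φ n', ?_, rfl⟩
        have := Fitting.pCore_map_mulEquiv q φ
        exact this ▸ Subgroup.mem_map_of_mem φ.toMonoidHom hn'
      rw [this, Subgroup.mem_bot] at hk
      rw [hk, mul_one, one_mul]
    by_cases hqp : q = p
    · subst hqp
      have : Cfsg.pCore q Kb = ⊥ := by
        obtain ⟨n, hn⟩ := IsPGroup.iff_card.1 (Fitting.pCore_isPGroup (G := Kb) q)
        rcases Nat.eq_zero_or_pos n with rfl | hn0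
        · exact Subgroup.card_eq_one.1 (by simpa using hn)
        · exact absurd ((hn ▸ dvd_pow_self q hn0.ne').trans
            (Subgroup.card_subgroup_dvd_card _)) hpKb
      rw [this, Subgroup.map_bot, Subgroup.mem_bot] at hk
      rw [hk, mul_one, one_mul]
    obtain ⟨S, hS⟩ := Tech46.exists_invariant_sylow hA' (hK'card ▸ hpK) hA'K q
    set S₁ : Subgroup T := (S : Subgroup K').map K'.subtype with hS₁
    set S₂ : Subgroup G := S₁.map T.subtype with hS₂
    have hxS : x ∈ Subgroup.normalizer (S₂ : Set G) :=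
      Subgroup.le_normalizer_map T.subtype ⟨⟨x, hxT⟩, hS (mem_zpowers _), rfl⟩
    have hcomm := h.commutator_le_Q_of_ne hp hxZ hxo hqp hqr (Subgroup.map_subtype_le S₁)
      ((S.isPGroup'.map _).map _) hxS
    have hk' : k ∈ S₁.map f := by
      obtain ⟨k', hk', rfl⟩ := hk
      obtain ⟨s, hs, hsk⟩ := Fitting.pCore_le_sylow
        (S.mapSurjective (f.subgroupMap_surjective K')) hk'
      exact ⟨s, ⟨s, hs, rfl⟩, congrArg Subtype.val hsk⟩
    obtain ⟨s, hs, rfl⟩ := hk'
    have h1 : f ⁅s, ⟨x, hxT⟩⁆ = 1 := (h.autR_eq_one _).2 (hcomm (Subgroup.commutator_mem_commutator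
      (H₁ := S₂) (g₁ := (s : G)) ⟨s, hs, rfl⟩ (mem_zpowers x)))
    rw [map_commutatorElement, commutatorElement_eq_one_iff_mul_comm] at h1
    exact h1.symm
  -- so it centralises the image
  have hcent : ⁅Kb, Ab⁆ = ⊥ := by
    set F := Cfsg.fittingSubgroup Kb with hF
    set F₁ := F.map Kb.subtype with hF₁
    have hFA : ⁅F₁, Ab⁆ = ⊥ := by
      rw [Subgroup.commutator_eq_bot_iff_le_centralizer, hF₁, hF, Fitting.fitting_eq_iSup_pCore,
        Subgroup.map_iSup, iSup_le_iff]
      intro q k hk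
      rw [Subgroup.mem_centralizer_iff]
      intro a ha
      obtain ⟨n, rfl⟩ := mem_zpowers_iff.1 ha
      exact (Commute.zpow_left (hcore q (Nat.prime_of_mem_primeFactors q.2) k hk) n).eq
    have hFK : ⁅F₁, Kb⁆ ≤ F₁ := by
      refine Subgroup.commutator_le.2 fun a ha k hk => ?_
      obtain ⟨a', ha', rfl⟩ := ha
      haveI := Fitting.fitting_normal (G := Kb)
      refine ⟨⁅a', ⟨k, hk⟩⁆, ?_, rfl⟩
      exact Subgroup.commutator_le_left F ⊤ (Subgroup.commutator_mem_commutator ha' (Subgroup.mem_top _))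
    have h3 : ⁅⁅Kb, Ab⁆, F₁⁆ = ⊥ := Subgroup.commutator_commutator_eq_bot_of_rotate
      (by rw [Subgroup.commutator_comm Ab F₁, hFA, Subgroup.commutator_bot_left])
      (eq_bot_iff.2 ((Subgroup.commutator_mono hFK le_rfl).trans hFA.le))
    have hle : ⁅Kb, Ab⁆ ≤ F₁ := by
      intro g hg
      have hgK : g ∈ Kb := Coprime.commutator_le_of_normalizes hAbK hg
      have hgc : (⟨g, hgK⟩ : Kb) ∈ Subgroup.centralizer (F : Set Kb) := by
        rw [Subgroup.mem_centralizer_iff]
        intro a ha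
        exact Subtype.ext (Subgroup.mem_centralizer_iff.1
          (Subgroup.commutator_eq_bot_iff_le_centralizer.1 h3 hg) _ ⟨a, ha, rfl⟩)
      exact ⟨_, Fitting.centralizer_fitting_le hgc, rfl⟩
    have hcop : (Nat.card Ab).Coprime (Nat.card Kb) := by
      refine Nat.Coprime.coprime_dvd_left ?_ ((Nat.Prime.coprime_iff_not_dvd hp).2 hpKb)
      rw [Nat.card_zpowers]
      refine orderOf_dvd_of_pow_eq_one ?_
      rw [hxb, ← map_pow, show (⟨x, hxT⟩ : T) ^ p = 1 from Subtype.ext (by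
        show x ^ p = 1
        rw [← hxo, pow_orderOf_eq_one]), map_one]
    exact Coprime.commutator_eq_bot_of_commutator_commutator_eq_bot Ab Kb hAbK hcop (Or.inr hKbsol)
      (eq_bot_iff.2 ((Subgroup.commutator_mono hle le_rfl).trans hFA.le))
  refine Subgroup.commutator_le.2 fun k hk a ha => ?_
  obtain ⟨n, rfl⟩ := mem_zpowers_iff.1 ha
  have h1 : ⁅f ⟨k, hk.1⟩, xb ^ n⁆ ∈ ⁅Kb, Ab⁆ :=
    Subgroup.commutator_mem_commutator (Subgroup.mem_map_of_mem f (show (⟨k, hk.1⟩ : T) ∈ K' from hk)) (zpow_mem (mem_zpowers xb) n)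
  rw [hcent, Subgroup.mem_bot, hxb, ← map_zpow, ← map_commutatorElement, h.autR_eq_one] at h1
  exact h1

/-- An invariant subgroup of order prime to `p` splits into a part in `C(R)` and a part centralised
by `x`. -/
theorem invariant {p : ℕ} (hp : p.Prime) {x : G} (hxZ : x ∈ Z) (hxo : orderOf x = p)
    {W : Subgroup G} (hWT : W ≤ stabilizer G c) (hxW : x ∈ Subgroup.normalizer (W : Set G))
    (hpW : ¬ p ∣ Nat.card W) {g : G} (hg : g ∈ W) :
    ∃ u, u ∈ W ∧ u ∈ Q c R ∧ ∃ d, d ∈ W ∧ d ∈ two G c y ∧ Commute d x ∧ g = u * d := by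
  have : Fact p.Prime := ⟨hp⟩
  set A := zpowers x with hA
  have hx1 : x ≠ 1 := fun e => hp.ne_one (by rw [← hxo, e, orderOf_one])
  have hAW : A ≤ Subgroup.normalizer (W : Set G) := zpowers_le.2 hxW
  have hAp : IsPGroup p A := IsPGroup.of_card (n := 1) (by rw [hA, Nat.card_zpowers, hxo, pow_one])
  set X : Subgroup G := (Q c R ⊓ W) ⊔ (W ⊓ Subgroup.centralizer (A : Set G)) with hX
  have hWX : W ≤ X := by
    have hXW : X ≤ W := sup_le inf_le_right inf_le_left
    refine (Subgroup.eq_of_le_of_card_ge hXW (Nat.le_of_dvd Nat.card_pos ?_)).ge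
    rw [← Nat.factorization_le_iff_dvd Nat.card_pos.ne' Nat.card_pos.ne']
    intro q
    by_cases hq : q.Prime
    swap
    · simp [Nat.factorization_eq_zero_of_not_prime _ hq]
    have : Fact q.Prime := ⟨hq⟩
    obtain ⟨S, hS⟩ := Tech46.exists_invariant_sylow hAp hpW hAW q
    set S₁ : Subgroup G := (S : Subgroup W).map W.subtype with hS₁
    have hS₁W : S₁ ≤ W := Subgroup.map_subtype_le _
    have hS₁card : Nat.card S₁ = q ^ (Nat.card W).factorization q := by
      rw [hS₁, Subgroup.card_map_of_injective W.subtype_injective, S.card_eq_multiplicity]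
    have hle : S₁ ≤ X := by
      by_cases hqp : q = p
      · intro g hg
        have h0 : (Nat.card W).factorization q = 0 :=
          Nat.factorization_eq_zero_of_not_dvd (hqp ▸ hpW)
        rw [h0, pow_zero] at hS₁card
        rw [Subgroup.card_eq_one.1 hS₁card, Subgroup.mem_bot] at hg
        exact hg ▸ one_mem X
      have hcop : (Nat.card A).Coprime (Nat.card S₁) := by
        rw [hA, Nat.card_zpowers, hxo, hS₁card]
        exact Nat.Coprime.pow_right _ ((Nat.coprime_primes hp hq).2 (Ne.symm hqp))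
      have hS₁p : IsPGroup q S₁ := S.isPGroup'.map _
      haveI : Group.IsNilpotent S₁ := hS₁p.isNilpotent
      have hsplit := Coprime.commutator_sup_centralizer A S₁ hS hcop (Or.inr inferInstance)
      have hcomm : ⁅S₁, A⁆ ≤ Q c R := by
        by_cases hqr : q = r
        · have hcE : ⁅S₁, A⁆ ≤ Subgroup.centralizer (h.E : Set G) := by
            have : Fact (Nat.Prime 2) := ⟨Nat.prime_two⟩
            haveI := h.isMulCommutative_E
            refine Structure.commutator_le_centralizer_of_fpf_exc 2 h.E (Ne.symm hqp)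
              (h.prime_ne hp hxZ hxo).2 (by rw [hqr]; exact h.r_ne) S₁ A hS₁p
              (by rw [hA, Nat.card_zpowers, hxo]) (fun e he => h.E_sq he)
              (fun e => absurd (hqr.symm.trans e) h.r_ne) hS
              (sup_le ((hS₁W.trans hWT).trans h.le_normalizer_E)
                (zpowers_le.2 (h.le_normalizer_E (h.Z_le hxZ).1))) ?_
            refine eq_bot_iff.2 fun e he => ?_
            exact h.eq_one_of_commute hxZ hx1 he.1 (he.2 x (mem_zpowers x))
          have hK : ⁅S₁, A⁆ ≤ stabilizer G c ⊓ Subgroup.centralizer (h.E : Set G) :=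
            le_inf ((Coprime.commutator_le_of_normalizes hS).trans (hS₁W.trans hWT)) hcE
          rw [← Coprime.commutator_commutator_eq A S₁ hS hcop (Or.inr inferInstance)]
          exact (Subgroup.commutator_mono hK le_rfl).trans (h.commutator_centralizer_E hp hxZ hxo)
        · exact h.commutator_le_Q_of_ne hp hxZ hxo hqp hqr (hS₁W.trans hWT) hS₁p
            (hS (mem_zpowers x))
      rw [← hsplit]
      exact sup_le (le_sup_of_le_left (le_inf hcomm
        ((Coprime.commutator_le_of_normalizes hS).trans hS₁W)))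
        (le_sup_of_le_right (inf_le_inf_right _ hS₁W))
    refine (hq.pow_dvd_iff_le_factorization Nat.card_pos.ne').1 ?_
    rw [← hS₁card]
    exact Subgroup.card_dvd_of_le hle
  have hg' := hWX hg
  rw [hX, sup_comm] at hg'
  obtain ⟨d, hd, u, hu, rfl⟩ := Coprime.exists_mul_of_mem_sup
    ((inf_le_left.trans (le_inf (hWT.trans h.le_normalizer_Q) Subgroup.le_normalizer)).trans
      Subgroup.inf_normalizer_le_normalizer_inf) hg'
  have hdx : Commute d x := (hd.2 x (mem_zpowers x)).symm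
  refine ⟨d * u * d⁻¹, W.mul_mem (W.mul_mem hd.1 hu.2) (W.inv_mem hd.1),
    (Subgroup.mem_normalizer_iff.1 (h.le_normalizer_Q (hWT hd.1)) u).1 hu.1, d, hd.1,
    h.mem_two_of_commute (hWT hd.1) hxZ hx1 hdx.symm, hdx, by group⟩

end Setting

end CfsgLib.CoreSplit
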