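import Cfsg.Agent.Lib.CoreSplit.Exceptional
import Cfsg.Prelude.Def_LieRecognition

/-!
The centraliser of the minimal normal subgroup in the point stabiliser makes the action a split
rank one set-up, in which it contains that subgroup of odd order.
-/

set_option autoImplicit false

namespace CfsgLib.CoreSplit

open CfsgLib.BenderTrans MulAction Subgroup CfsgLib.Involutions

universe u

variable {G : Type u} [Group G] {Ω : Type u} [MulAction G Ω]

namespace Setting

variable {c y : Ω} {R Z : Subgroup G} {r : ℕ} (h : Setting c y R Z r) [Finite G] [Finite Ω]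
include h

omit [Finite Ω] in
theorem R_le_Q : R ≤ Q c R := by
  haveI := h.R_elem.1
  exact fun a ha => ⟨h.R_le ha, fun b hb =>
    congrArg (Subtype.val : R → G) (IsMulCommutative.is_comm.comm (⟨b, hb⟩ : R) ⟨a, ha⟩)⟩

omit [Finite Ω] in
theorem two_transitive : MulAction.IsMultiplyPretransitive G Ω 2 := by
  refine MulAction.is_two_pretransitive_iff.2 fun {a b a' b'} hab hab' => ?_
  obtain ⟨g, hg⟩ := h.oneFix.trans a a'
  have hgb : g • b ≠ a' := fun e => hab (smul_left_cancel g (hg.trans e.symm))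
  obtain ⟨g', hg', hgy⟩ := h.trans2 a' (g • b) b' hgb (Ne.symm hab')
  exact ⟨g' * g, by rw [mul_smul, hg, hg'], by rw [mul_smul, hgy]⟩

/-- The point stabiliser is the product of `C(R)` and the two point stabiliser, given that it is that
of the centraliser of the involutions and the two point stabiliser in the exceptional case. -/
theorem split (hexc : ∀ q d, Exceptional c y Z q d → ∀ g ∈ stabilizer G c,
      ∃ k ∈ stabilizer G c, (∀ s ∈ invAt G c, Commute k s) ∧ ∃ e ∈ two G c y, g = k * e)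
    {g : G} (hg : g ∈ stabilizer G c) : ∃ u, u ∈ Q c R ∧ ∃ d, d ∈ two G c y ∧ g = u * d := by
  by_cases hfull : FullFpf c y R
  · exact h.split_of_full hfull hg
  obtain ⟨q, d, hd⟩ := h.exceptional_of_not_full hfull
  obtain ⟨k, hk, hks, e, he, rfl⟩ := hexc q d hd g hg
  obtain ⟨u, -, huQ, d', -, hd', -, rfl⟩ := h.centF_split h.conf_top (g := k)
    ⟨⟨mem_top k, hk⟩, fun s hs => (hks s hs.1).eq.symm⟩
  exact ⟨u, huQ, d' * e, mul_mem hd' he, mul_assoc _ _ _⟩

/-- `C(R)` in the point stabiliser, with the point and any swapper, is a split rank one set-up. -/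
theorem isRankOneSetup (hexc : ∀ q d, Exceptional c y Z q d → ∀ g ∈ stabilizer G c,
      ∃ k ∈ stabilizer G c, (∀ s ∈ invAt G c, Commute k s) ∧ ∃ e ∈ two G c y, g = k * e)
    {t : G} (ht : t ∈ swaps G c y) :
    Cfsg.IsRankOneSetup G Ω c t (Q c R) where
  two_transitive := h.two_transitive
  mul_self := mul_self_eq_one ht.1
  ne_one e := by simpa [e] using ht.1
  not_mem e := h.ne (by rw [← ht.2]; exact e)
  le := inf_le_left
  conj_mem g hg x hx := (Subgroup.mem_normalizer_iff.1 (h.le_normalizer_Q hg) x).1 hx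
  inf_eq_bot := by
    rw [ht.2, eq_bot_iff]
    exact fun g hg => Subgroup.mem_bot.2 (h.two_inf_Q ⟨hg.1.1, hg.2⟩ hg.1)
  sup_eq := by
    rw [ht.2]
    refine le_antisymm (sup_le inf_le_left inf_le_left) fun g hg => ?_
    obtain ⟨u, hu, d, hd, rfl⟩ := h.split hexc hg
    exact Subgroup.mul_mem_sup hu hd
  even_card := by
    obtain ⟨s, t, hs, -⟩ := h.oneFix.exists_invAt_ne h.four c
    have hd := Subgroup.orderOf_dvd_natCard (Q c R) (h.E_le_Q (h.mem_E.2 (Or.inr hs)))
    rw [hs.1] at hd
    exact even_iff_two_dvd.2 hd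
  odd_card := by rw [ht.2]; exact h.odd_two

/-- No such setting exists, once the regular normal subgroup of a split rank one set-up is known
to be a `2`-group. -/
theorem false_of_isPGroup_two (hexc : ∀ q d, Exceptional c y Z q d → ∀ g ∈ stabilizer G c,
      ∃ k ∈ stabilizer G c, (∀ s ∈ invAt G c, Commute k s) ∧ ∃ e ∈ two G c y, g = k * e)
    (h2 : ∀ t : G, Cfsg.IsRankOneSetup G Ω c t (Q c R) →
    IsPGroup 2 (Q c R)) : False := by
  obtain ⟨t, ht⟩ := h.exists_swap
  have hQ := h2 t (h.isRankOneSetup hexc ht)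
  obtain ⟨⟨a, ha⟩, ha1⟩ := Subgroup.ne_bot_iff_exists_ne_one.1 h.R_ne
  obtain ⟨i, hi⟩ := hQ ⟨a, h.R_le_Q ha⟩
  obtain ⟨j, hj⟩ := h.R_pGroup ⟨a, ha⟩
  refine ha1 (Subtype.ext (orderOf_eq_one_iff.1 ?_))
  exact Nat.eq_one_of_dvd_coprimes
    (Nat.Coprime.pow j i ((Nat.coprime_primes h.prime Nat.prime_two).2 h.r_ne))
    (orderOf_dvd_of_pow_eq_one (congrArg Subtype.val hj))
    (orderOf_dvd_of_pow_eq_one (congrArg Subtype.val hi))

end Setting

end CfsgLib.CoreSplit
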