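import Cfsg.Agent.Lib.CoreSplit.ExcKernel
import Cfsg.Agent.Lib.BenderQ.SingerDecomp

/-!
The faithful exceptional case from the statement that, in the Singer situation, no element of the
point stabiliser interchanges two involutions with that centre.
-/

set_option autoImplicit false

namespace CfsgLib.CoreSplit

open CfsgLib.BenderTrans MulAction

universe u

theorem decompFaithful_of_core
    (hcore : ∀ (G Ω : Type u) [Group G] [Finite G] [MulAction G Ω] [Finite Ω] (c y : Ω) (q f : ℕ)
      (A : Subgroup G) (r : G), BenderQ.Singer G c y q f A r →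
      ∀ g u w : G, g • c = c → u ∈ invAt G c → w ∈ invAt G c → u ≠ w → g * u * g⁻¹ = w →
        g * w * g⁻¹ = u → False) : DecompFaithful.{u} := by
  intro G Ω _ _ _ _ hodd h hfaith hfour _ c y hne hcomm q hq hq2 hcard hC0
  exact BenderQ.PrimeCase.decomp_of_core
    (⟨hodd, h, hfaith, hfour, hne, hcomm, hq, hq2, hcard, hC0⟩ : BenderQ.PrimeCase G c y q)
    (hcore G Ω c y q)

end CfsgLib.CoreSplit
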