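import Mathlib

/-!
A central power of a `q`-element is a `q`-th power of a central element when the Sylow `q`-subgroup is
abelian modulo the centre and the group is generated by elements of order prime to `q` (`q` odd).
-/

set_option autoImplicit false

namespace CfsgLib.CoreSplit

open MonoidHom Subgroup
open scoped commutatorElement

variable {L : Type*} [Group L] [Finite L] {q : ℕ}

/-- Powers of a product of two elements with a central commutator of order dividing `q`. -/
theorem mul_pow_of_central (hq : Odd q) {a b : L} (hc : ⁅b, a⁆ ∈ center L) (ha : a ^ q ∈ center L) :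
    (a * b) ^ q = a ^ q * b ^ q := by
  set c := ⁅b, a⁆ with hcdef
  have hcomm : ∀ x : L, c * x = x * c := fun x => ((mem_center_iff.1 hc) x).symm
  have hba : b * a = c * (a * b) := by simp [hcdef, commutatorElement_def, mul_assoc]
  have hbn : ∀ n : ℕ, b ^ n * a = c ^ n * (a * b ^ n) := by
    intro n
    induction n with
    | zero => simp
    | succ n ih =>
      have hcn : Commute (c ^ n) b := (Commute.pow_left (hcomm b) n)
      calc b ^ (n + 1) * a = b * (b ^ n * a) := by rw [pow_succ', mul_assoc]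
        _ = c ^ n * (b * a) * b ^ n := by rw [ih, ← mul_assoc, ← hcn.eq]; simp [mul_assoc]
        _ = _ := by rw [hba, pow_succ c, pow_succ' b]; simp [mul_assoc]
  have hpow : ∀ n : ℕ, (a * b) ^ n = c ^ n.choose 2 * (a ^ n * b ^ n) := by
    intro n
    induction n with
    | zero => simp
    | succ n ih =>
      have hcn : Commute (c ^ n) (a ^ n) := Commute.pow_left (hcomm _) n
      calc (a * b) ^ (n + 1) = c ^ n.choose 2 * (a ^ n * (b ^ n * a) * b) := by
            rw [pow_succ, ih]; simp [mul_assoc]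
        _ = c ^ n.choose 2 * c ^ n * (a ^ n * a * (b ^ n * b)) := by
            rw [hbn, ← mul_assoc (a ^ n) (c ^ n), ← hcn.eq]; simp [mul_assoc]
        _ = _ := by
            rw [← pow_add, ← pow_succ, ← pow_succ, Nat.choose_succ_succ n 1, Nat.choose_one_right,
              add_comm n (n.choose 2)]
  -- the commutator has order dividing `q`
  have hcq : c ^ q = 1 := by
    have han : ∀ n : ℕ, b * a ^ n = c ^ n * (a ^ n * b) := by
      intro n
      induction n with
      | zero => simp
      | succ n ih =>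
        have hca : Commute c (a ^ n) := hcomm _
        calc b * a ^ (n + 1) = c ^ n * (a ^ n * (b * a)) := by
              rw [pow_succ, ← mul_assoc, ih]; simp [mul_assoc]
          _ = c ^ n * c * (a ^ n * a * b) := by
              rw [hba, ← mul_assoc (a ^ n) c, ← hca.eq]; simp [mul_assoc]
          _ = _ := by rw [← pow_succ, ← pow_succ]
    have h1 := han q
    rw [(mem_center_iff.1 ha b)] at h1
    exact mul_eq_right.1 h1.symm
  obtain ⟨k, hk⟩ := hq
  have h2 : q.choose 2 = q * k := by
    rw [Nat.choose_two_right, hk, Nat.add_sub_cancel]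
    rw [show (2 * k + 1) * (2 * k) = ((2 * k + 1) * k) * 2 by ring, Nat.mul_div_cancel _ two_pos]
  rw [hpow, h2, pow_mul, hcq, one_pow, one_mul]

/-- The transfer argument. -/
theorem false_of_central_power [hq : Fact q.Prime] (hq2 : q ≠ 2)
    (hgen : closure {g : L | ¬ q ∣ orderOf g} = ⊤) (S : Sylow q L) {K : Subgroup L}
    (hKZ : K ≤ center L) (hKS : K ≤ (S : Subgroup L))
    (hcomm : ∀ a ∈ (S : Subgroup L), ∀ b ∈ (S : Subgroup L), ⁅a, b⁆ ∈ K)
    {w : L} (hw : w ∈ (S : Subgroup L)) (hwK : w ^ q ∈ K) (hne : ∀ k ∈ K, k ^ q ≠ w ^ q) : False := by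
  classical
  have hodd : Odd q := hq.out.odd_of_ne_two hq2
  set H : Subgroup L := (S : Subgroup L) with hH
  let N : Subgroup H := K.subgroupOf H
  haveI hN : N.Normal := ⟨fun n hn g => by
    have h : (g : L) * (n : L) = (n : L) * (g : L) := mem_center_iff.1 (hKZ hn) (g : L)
    show (g : L) * (n : L) * (g : L)⁻¹ ∈ K
    rw [h, mul_inv_cancel_right]
    exact hn⟩
  letI : CommGroup (H ⧸ N) :=
    { (inferInstance : Group (H ⧸ N)) with
      mul_comm := by
        intro x y
        refine QuotientGroup.induction_on x fun a => QuotientGroup.induction_on y fun b => ?_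
        rw [← QuotientGroup.mk_mul, ← QuotientGroup.mk_mul, QuotientGroup.eq]
        show ((a * b : H) : L)⁻¹ * ((b * a : H) : L) ∈ K
        have h := hcomm ((b : L)⁻¹) (inv_mem b.2) ((a : L)⁻¹) (inv_mem a.2)
        simpa [commutatorElement_def, mul_assoc] using h }
  let φ : H →* H ⧸ N := QuotientGroup.mk' N
  have hA : IsPGroup q (H ⧸ N) := S.2.to_quotient N
  have hV : transfer φ = 1 := by
    have : closure {g : L | ¬ q ∣ orderOf g} ≤ (transfer φ).ker := by
      refine (closure_le _).2 fun g hg => ?_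
      rw [SetLike.mem_coe, mem_ker]
      obtain ⟨k, hk⟩ := hA (transfer φ g)
      refine orderOf_eq_one_iff.1 (Nat.eq_one_of_dvd_coprimes ?_ (orderOf_map_dvd (transfer φ) g)
        (orderOf_dvd_of_pow_eq_one hk))
      exact (Nat.Coprime.pow_left k ((Nat.Prime.coprime_iff_not_dvd hq.out).2 hg)).symm
    rw [hgen, top_le_iff] at this
    exact MonoidHom.ker_eq_top_iff.1 this
  haveI : Fintype (Quotient (MulAction.orbitRel (zpowers w) (L ⧸ H))) := Fintype.ofFinite _
  set n : Quotient (MulAction.orbitRel (zpowers w) (L ⧸ H)) → ℕ :=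
    fun x => Function.minimalPeriod (w • ·) x.out
  set g : Quotient (MulAction.orbitRel (zpowers w) (L ⧸ H)) → H := fun x =>
    ⟨x.out.out⁻¹ * w ^ n x * x.out.out,
      QuotientGroup.out_conj_pow_minimalPeriod_mem H w x.out⟩
  have hgpow : ∀ x, ((g x : H) : L) ^ q = (w ^ q) ^ n x := by
    intro x
    show (x.out.out⁻¹ * w ^ n x * x.out.out) ^ q = _
    have h1 : (x.out.out⁻¹ * w ^ n x * x.out.out) ^ q = x.out.out⁻¹ * (w ^ n x) ^ q * x.out.out := by
      have := (conj_pow (a := x.out.out⁻¹) (b := w ^ n x) (i := q))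
      simpa using this
    rw [h1, ← pow_mul, mul_comm, pow_mul]
    have hc := mem_center_iff.1 (pow_mem (hKZ hwK) (n x)) x.out.out⁻¹
    rw [hc, mul_assoc, inv_mul_cancel, mul_one]
  have key : ∀ s : Finset (Quotient (MulAction.orbitRel (zpowers w) (L ⧸ H))),
      ∃ u : H, φ u = ∏ x ∈ s, φ (g x) ∧ (u : L) ^ q = (w ^ q) ^ ∑ x ∈ s, n x := by
    intro s
    induction s using Finset.induction with
    | empty => exact ⟨1, by simp, by simp⟩
    | @insert x s hx ih =>
      obtain ⟨u, hu, hpw⟩ := ih
      refine ⟨g x * u, by rw [map_mul, hu, Finset.prod_insert hx], ?_⟩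
      rw [Finset.sum_insert hx, Subgroup.coe_mul, mul_pow_of_central hodd
        (hKZ (hcomm _ u.2 _ (g x).2)) (by rw [hgpow]; exact pow_mem (hKZ hwK) _), hgpow, hpw, pow_add]
  obtain ⟨u, hu, hpw⟩ := key Finset.univ
  rw [← MonoidHom.transfer_eq_prod_quotient_orbitRel_zpowers_quot φ w, hV, MonoidHom.one_apply] at hu
  have huK : (u : L) ∈ K := (QuotientGroup.eq_one_iff u).1 hu
  have hsum : ∑ x, n x = H.index := (Subgroup.index_eq_sum_minimalPeriod H w).symm
  rw [hsum] at hpw
  obtain ⟨j, hj⟩ := S.2 (⟨w, hw⟩ : H)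
  have hj' : orderOf (w ^ q) ∣ q ^ j :=
    (orderOf_pow_dvd q).trans (orderOf_dvd_of_pow_eq_one (congrArg Subtype.val hj))
  have hcop : Nat.Coprime H.index (orderOf (w ^ q)) :=
    Nat.Coprime.coprime_dvd_right hj'
      (Nat.Coprime.pow_right j ((Nat.Prime.coprime_iff_not_dvd hq.out).2 S.not_dvd_index).symm)
  obtain ⟨c, hc⟩ := exists_pow_eq_self_of_coprime hcop
  exact hne ((u : L) ^ c) (pow_mem huK c) (by rw [← pow_mul, mul_comm, pow_mul, hpw, hc])

end CfsgLib.CoreSplit
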