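import Cfsg.Agent.Lib.CoreSplit.Config
import Cfsg.Agent.Lib.CoreSplit.SmallRep
import Cfsg.Agent.Lib.CoreSplit.Transfer

/-!
In every configuration the point stabiliser is the product of the centraliser of the minimal normal
subgroup and the two point stabiliser.
-/

set_option autoImplicit false

namespace CfsgLib.CoreSplit

open CfsgLib.BenderTrans MulAction Subgroup CfsgLib.Involutions
open scoped Pointwise commutatorElement

universe u

variable {G : Type u} [Group G] {Ω : Type u} [MulAction G Ω]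

/-- The subgroup generated by the conjugates in the point stabiliser of the part of `Z` in `M`. -/
abbrev zClosure (c : Ω) (Z M : Subgroup G) : Subgroup G :=
  Subgroup.closure {x | ∃ g ∈ M ⊓ stabilizer G c, ∃ z ∈ Z, z ∈ M ∧ g * z * g⁻¹ = x}

namespace Setting

variable {c y : Ω} {R Z : Subgroup G} {r : ℕ} (h : Setting c y R Z r) [Finite G] {M : Subgroup G}
include h

theorem zClosure_le : zClosure c Z M ≤ M ⊓ stabilizer G c := by
  refine (Subgroup.closure_le _).2 ?_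
  rintro _ ⟨g, hg, z, hz, hzM, rfl⟩
  exact (M ⊓ stabilizer G c).mul_mem
    ((M ⊓ stabilizer G c).mul_mem hg ⟨hzM, (h.Z_le hz).1⟩) ((M ⊓ stabilizer G c).inv_mem hg)

omit h [Finite G] in
theorem conj_mem_zClosure {g x : G} (hg : g ∈ M ⊓ stabilizer G c) (hx : x ∈ zClosure c Z M) :
    g * x * g⁻¹ ∈ zClosure c Z M := by
  induction hx using Subgroup.closure_induction with
  | mem x hx =>
    obtain ⟨g', hg', z, hz, hzM, rfl⟩ := hx
    exact Subgroup.subset_closure ⟨g * g', mul_mem hg hg', z, hz, hzM, by group⟩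
  | one => simp
  | mul a b _ _ ha hb => rw [← conj_mul]; exact mul_mem ha hb
  | inv a _ ha => rw [← conj_inv]; exact inv_mem ha

omit [Finite G] in
theorem mem_zClosure {z : G} (hz : z ∈ Z) (hzM : z ∈ M) : z ∈ zClosure c Z M :=
  Subgroup.subset_closure ⟨1, one_mem _, z, hz, hzM, by simp⟩

/-- The central case. -/
theorem split_of_central (hM : Conf c y Z M)
    (hcen : ∀ d ∈ zClosure c Z M, d ∈ two G c y → ∀ z ∈ Z, z ∈ M → Commute d z)
    {g : G} (hgM : g ∈ M) (hgc : g ∈ stabilizer G c) :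
    ∃ u, u ∈ M ∧ u ∈ Q c R ∧ ∃ d, d ∈ M ∧ d ∈ two G c y ∧ g = u * d := by
  obtain ⟨p, hp, x, hxZ, hxM, hxo⟩ := h.exists_prime hM
  have : Fact p.Prime := ⟨hp⟩
  have hx1 : x ≠ 1 := fun e => hp.ne_one (by rw [← hxo, e, orderOf_one])
  set L := zClosure c Z M with hL
  have hLY : L ≤ M ⊓ stabilizer G c := h.zClosure_le
  have hxL : x ∈ L := h.mem_zClosure hxZ hxM
  let x' : L := ⟨x, hxL⟩
  have hx'o : orderOf x' = p := by rw [← Subgroup.orderOf_coe]; exact hxo
  obtain ⟨P, hP⟩ := (IsPGroup.of_card (p := p) (n := 1) (G := zpowers x')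
    (by rw [Nat.card_zpowers, hx'o, pow_one])).exists_le_sylow
  have hxP : x' ∈ (P : Subgroup L) := hP (mem_zpowers x')
  have hPZ : (P : Subgroup L).map L.subtype ≤ Z := h.pGroup_le_Z (P.isPGroup'.map _)
    (((Subgroup.map_subtype_le _).trans hLY).trans inf_le_right) ⟨x', hxP, rfl⟩ hxZ hxo
  have htwo : ∀ g : G, g ∈ stabilizer G c → g * x * g⁻¹ ∈ Z → g ∈ two G c y := by
    intro g hg hgx
    have := h.mem_two_of_normalizes (g := g⁻¹) (inv_mem hg) hxZ hx1 (by rwa [inv_inv])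
    simpa using inv_mem this
  have hNC : Subgroup.normalizer ((P : Subgroup L) : Set L) ≤
      Subgroup.centralizer ((P : Subgroup L) : Set L) := by
    intro g hg
    have h1 : g * x' * g⁻¹ ∈ (P : Subgroup L) := (Subgroup.mem_normalizer_iff.1 hg x').1 hxP
    have hg2 : (g : G) ∈ two G c y := htwo g (hLY g.2).2 (hPZ ⟨_, h1, rfl⟩)
    rw [Subgroup.mem_centralizer_iff]
    intro v hv
    exact Subtype.ext (hcen g g.2 hg2 v (hPZ ⟨v, hv, rfl⟩) (hLY v.2).1).eq.symm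
  set W : Subgroup L := (MonoidHom.transferSylow P hNC).ker with hW
  have hpW : ¬ p ∣ Nat.card (W.map L.subtype) := by
    rw [Subgroup.card_map_of_injective L.subtype_injective]
    exact MonoidHom.not_dvd_card_ker_transferSylow P hNC
  have hxW : x ∈ Subgroup.normalizer ((W.map L.subtype : Subgroup G) : Set G) :=
    Subgroup.le_normalizer_map L.subtype ⟨x', (Subgroup.normalizer_eq_top (H := W)).ge trivial, rfl⟩
  have hLsplit : ∀ l ∈ L, ∃ u, u ∈ M ∧ u ∈ Q c R ∧ ∃ d, d ∈ M ∧ d ∈ two G c y ∧ l = u * d := by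
    intro l hl
    obtain ⟨⟨⟨a, ha⟩, ⟨b, hb⟩⟩, hab⟩ :=
      ((MonoidHom.ker_transferSylow_isComplement' P hNC).2 (⟨l, hl⟩ : L))
    have hlab : (a : G) * (b : G) = l := congrArg Subtype.val hab
    obtain ⟨u, hu, huQ, d, hd, hd2, -, hud⟩ := h.invariant hp hxZ hxo
      (((Subgroup.map_subtype_le W).trans hLY).trans inf_le_right) hxW hpW
      (Subgroup.mem_map_of_mem L.subtype ha)
    refine ⟨u, (hLY (Subgroup.map_subtype_le W hu)).1, huQ, d * b,
      mul_mem (hLY (Subgroup.map_subtype_le W hd)).1 (hLY b.2).1,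
      mul_mem hd2 (h.Z_le (hPZ ⟨b, hb, rfl⟩)), ?_⟩
    rw [← mul_assoc, ← hud]
    exact hlab.symm
  have hgY : g ∈ M ⊓ stabilizer G c := ⟨hgM, hgc⟩
  let φ : L ≃* L :=
    { toFun := fun l => ⟨g * l * g⁻¹, conj_mem_zClosure hgY l.2⟩
      invFun := fun l => ⟨g⁻¹ * l * g, by
        simpa using conj_mem_zClosure ((M ⊓ stabilizer G c).inv_mem hgY) l.2⟩
      left_inv := fun l => Subtype.ext (by simp [mul_assoc])
      right_inv := fun l => Subtype.ext (by simp [mul_assoc])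
      map_mul' := fun a b => Subtype.ext (by simp [mul_assoc]) }
  obtain ⟨l, hl⟩ := MulAction.exists_smul_eq L (P.mapSurjective (f := φ.toMonoidHom) φ.surjective) P
  have hmem : l * φ x' * l⁻¹ ∈ (P : Subgroup L) := by
    rw [← hl, Sylow.coe_subgroup_smul, Subgroup.mem_pointwise_smul_iff_inv_smul_mem]
    refine ⟨x', hxP, ?_⟩
    show φ x' = _
    simp [MulAut.smul_def, mul_assoc]
  have hd : (l : G) * g ∈ two G c y := by
    refine htwo _ (mul_mem (hLY l.2).2 hgc) ?_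
    have := hPZ ⟨_, hmem, rfl⟩
    have e : (l : G) * g * x * ((l : G) * g)⁻¹ = l * (g * x * g⁻¹) * (l : G)⁻¹ := by group
    rw [e]; exact this
  obtain ⟨u, hu, huQ, d, hdM, hd2, hud⟩ := hLsplit (l : G)⁻¹ (inv_mem l.2)
  exact ⟨u, hu, huQ, d * ((l : G) * g), mul_mem hdM (mul_mem (hLY l.2).1 hgM), mul_mem hd2 hd, by
    rw [← mul_assoc, ← hud]; group⟩

/-- An element moving the part of `Z`, whose `q`th power does not, is impossible once the
commutators of `q`-subgroups of the point stabiliser centralise the involutions. -/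
theorem false_of_moving (hfpf : FullFpf c y R) (hM : Conf c y Z M) {q k : ℕ} [hq : Fact q.Prime] {w : G}
    (hwL : w ∈ zClosure c Z M) (hw : w ∈ two G c y) (hwq : w ^ q ^ k = 1)
    {z : G} (hz : z ∈ Z) (hzM : z ∈ M) (hne : ¬ Commute w z)
    (hwpow : ∀ v ∈ Z, v ∈ M → Commute (w ^ q) v)
    (hcomm : ∀ S : Subgroup G, S ≤ M ⊓ stabilizer G c → IsPGroup q S →
      ∀ a ∈ S, ∀ b ∈ S, ⁅a, b⁆ ∈ centF c M) : False := by
  set T := stabilizer G c with hT
  set L := zClosure c Z M with hL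
  have hLY : L ≤ M ⊓ T := h.zClosure_le
  have hwM : w ∈ M := (hLY hwL).1
  have hqZ := h.not_dvd_Z (M := M) hq.out hw hwq hz hne
  have hq2 : q ≠ 2 := by
    rintro rfl
    have hodd : Odd (orderOf w) :=
      h.odd_two.of_dvd_nat (Subgroup.orderOf_dvd_natCard _ hw)
    exact hne ((orderOf_eq_one_iff.1 (Nat.eq_one_of_dvd_coprimes
      (Nat.Coprime.pow_right k (Nat.coprime_two_right.2 hodd)) dvd_rfl
      (orderOf_dvd_of_pow_eq_one hwq))) ▸ Commute.one_left z)
  let L' : Subgroup T := L.subgroupOf T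
  let f := h.autR
  let Lb : Subgroup (MulAut R) := L'.map f
  have hsurj := f.subgroupMap_surjective L'
  set w' : L' := ⟨⟨w, hw.1⟩, Subgroup.mem_subgroupOf.2 hwL⟩ with hw'
  have hwp : IsPGroup q (zpowers w') := fun v => ⟨k, Subtype.ext (by
    obtain ⟨j, hj⟩ := mem_zpowers_iff.1 v.2
    show ((v : L')) ^ q ^ k = 1
    rw [← hj, ← zpow_natCast, ← zpow_mul, mul_comm, zpow_mul, zpow_natCast,
      show w' ^ q ^ k = 1 from Subtype.ext (Subtype.ext hwq), one_zpow])⟩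
  obtain ⟨S₀, hS₀⟩ := hwp.exists_le_sylow
  set S : Sylow q Lb := S₀.mapSurjective hsurj with hS
  set π : L' →* Lb := f.subgroupMap L' with hπ
  have hπ1 : ∀ v : L', ((π v : Lb) : MulAut R) = f v := fun v => rfl
  -- the image of the centraliser of the involutions is central
  have hcen : ∀ k₀ : T, (k₀ : G) ∈ centF c M → ∀ l : T, (l : G) ∈ L → Commute (f k₀) (f l) := by
    intro k₀ hk₀
    have : L ≤ ((Subgroup.centralizer {f k₀}).comap f).map T.subtype := by
      refine (Subgroup.closure_le _).2 ?_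
      rintro _ ⟨g, hg, v, hv, hvM, rfl⟩
      refine ⟨⟨g, hg.2⟩ * ⟨v, (h.Z_le hv).1⟩ * ⟨g, hg.2⟩⁻¹, ?_, rfl⟩
      have hk' : g⁻¹ * k₀ * g ∈ centF c M := by
        refine ⟨⟨M.mul_mem (M.mul_mem (M.inv_mem hg.1) hk₀.1.1) hg.1,
          T.mul_mem (T.mul_mem (T.inv_mem hg.2) k₀.2) hg.2⟩, fun s hs => ?_⟩
        have hs' : g * s * g⁻¹ ∈ {s | s ∈ invAt G c ∧ s ∈ M} :=
          ⟨h.conj_mem_invAt' hg.2 hs.1, mul_mem (mul_mem hg.1 hs.2) (inv_mem hg.1)⟩
        calc s * (g⁻¹ * k₀ * g) = g⁻¹ * ((g * s * g⁻¹) * k₀) * g := by group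
          _ = g⁻¹ * (k₀ * (g * s * g⁻¹)) * g := by rw [hk₀.2 _ hs']
          _ = _ := by group
      obtain ⟨u, huM, huQ, d, hdM, hd, hdc, hud⟩ := h.centF_split hM hk'
      have hfd : (⟨g, hg.2⟩ : T)⁻¹ * k₀ * ⟨g, hg.2⟩ = ⟨u, huQ.1⟩ * ⟨d, hd.1⟩ := Subtype.ext hud
      have h1 := congrArg f hfd
      rw [map_mul, map_mul, map_inv, map_mul, show f ⟨u, huQ.1⟩ = 1 from (h.autR_eq_one _).2 huQ,
        one_mul] at h1
      have hc : Commute (f ⟨d, hd.1⟩) (f ⟨v, (h.Z_le hv).1⟩) :=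
        (show Commute (⟨d, hd.1⟩ : T) ⟨v, (h.Z_le hv).1⟩ from
          Subtype.ext (h.commute_of_cent hM hd hdM hdc hv hvM).eq).map f
      rw [← h1] at hc
      rw [SetLike.mem_coe, Subgroup.mem_comap, Subgroup.mem_centralizer_singleton_iff]
      have h2 := hc.map (MulAut.conj (f ⟨g, hg.2⟩)).toMonoidHom
      simp only [MulEquiv.coe_toMonoidHom, MulAut.conj_apply] at h2
      have e : f ⟨g, hg.2⟩ * ((f ⟨g, hg.2⟩)⁻¹ * f k₀ * f ⟨g, hg.2⟩) * (f ⟨g, hg.2⟩)⁻¹ = f k₀ := by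
        group
      rw [e] at h2
      rw [map_mul, map_mul, map_inv]
      exact h2.eq.symm
    intro l hl
    obtain ⟨l', hl', e⟩ := this hl
    have e' : l' = l := Subtype.ext e
    rw [SetLike.mem_coe, Subgroup.mem_comap, Subgroup.mem_centralizer_singleton_iff] at hl'
    exact e' ▸ hl'.symm
  let K : Subgroup Lb := (S : Subgroup Lb) ⊓ (((centF c M).subgroupOf T).map f).subgroupOf Lb
  have hKmem : ∀ v ∈ K, ∃ k₀ : T, (k₀ : G) ∈ centF c M ∧ f k₀ = (v : MulAut R) := by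
    rintro v ⟨-, hv⟩
    obtain ⟨k₀, hk₀, e⟩ := Subgroup.mem_subgroupOf.1 hv
    exact ⟨k₀, hk₀, e⟩
  have hKZ : K ≤ Subgroup.center Lb := by
    intro v hv
    obtain ⟨k₀, hk₀, hk⟩ := hKmem v hv
    refine Subgroup.mem_center_iff.2 fun a => Subtype.ext ?_
    obtain ⟨l, hl, hla⟩ := a.2
    have := hcen k₀ hk₀ l hl
    rw [hk, hla] at this
    exact this.eq.symm
  have hgen : Subgroup.closure {g : Lb | ¬ q ∣ orderOf g} = ⊤ := by
    set H := Subgroup.closure {g : Lb | ¬ q ∣ orderOf g} with hH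
    have : L ≤ ((H.map Lb.subtype).comap f).map T.subtype := by
      refine (Subgroup.closure_le _).2 ?_
      rintro _ ⟨g, hg, v, hv, hvM, rfl⟩
      have hvT : v ∈ T := (h.Z_le hv).1
      set l : T := ⟨g, hg.2⟩ * ⟨v, hvT⟩ * ⟨g, hg.2⟩⁻¹ with hl
      have hlL : (l : G) ∈ L := Subgroup.subset_closure ⟨g, hg, v, hv, hvM, rfl⟩
      refine ⟨l, ?_, rfl⟩
      refine ⟨π ⟨l, Subgroup.mem_subgroupOf.2 hlL⟩, Subgroup.subset_closure ?_, rfl⟩
      intro hd
      have h1 := hd.trans (orderOf_map_dvd π _)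
      rw [← Subgroup.orderOf_coe, ← Subgroup.orderOf_coe] at h1
      have h2 : orderOf (g * v * g⁻¹) = orderOf v :=
        orderOf_injective (MulAut.conj g).toMonoidHom (MulAut.conj g).injective v
      rw [show ((l : T) : G) = g * v * g⁻¹ from rfl, h2] at h1
      exact hqZ (h1.trans (Subgroup.orderOf_dvd_natCard _ (show v ∈ Z ⊓ M from ⟨hv, hvM⟩)))
    rw [eq_top_iff]
    rintro a -
    obtain ⟨l, hl, hla⟩ := a.2
    obtain ⟨l', hl', e⟩ := this (Subgroup.mem_subgroupOf.1 hl)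
    have e' : l' = l := Subtype.ext e
    obtain ⟨b, hb, hba⟩ := hl'
    rw [e', hla] at hba
    exact Subtype.ext hba ▸ hb
  have hcomm' : ∀ a ∈ (S : Subgroup Lb), ∀ b ∈ (S : Subgroup Lb), ⁅a, b⁆ ∈ K := by
    intro a ha b hb
    refine ⟨commutatorElement_def a b ▸
      (S : Subgroup Lb).mul_mem ((S : Subgroup Lb).mul_mem ((S : Subgroup Lb).mul_mem ha hb) ((S : Subgroup Lb).inv_mem ha)) ((S : Subgroup Lb).inv_mem hb), ?_⟩
    obtain ⟨a₀, ha₀, rfl⟩ := ha
    obtain ⟨b₀, hb₀, rfl⟩ := hb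
    set S₁ : Subgroup G := ((S₀ : Subgroup L').map L'.subtype).map T.subtype with hS₁
    have hS₁Y : S₁ ≤ M ⊓ T := by
      rintro _ ⟨_, ⟨v, -, rfl⟩, rfl⟩
      exact hLY v.2
    refine Subgroup.mem_subgroupOf.2 ⟨⁅(a₀ : T), (b₀ : T)⁆, ?_, ?_⟩
    · exact Subgroup.mem_subgroupOf.2 (hcomm S₁ hS₁Y ((S₀.isPGroup'.map _).map _) _
        ⟨_, ⟨a₀, ha₀, rfl⟩, rfl⟩ _ ⟨_, ⟨b₀, hb₀, rfl⟩, rfl⟩)
    · show f ⁅(a₀ : T), (b₀ : T)⁆ = ((⁅π a₀, π b₀⁆ : Lb) : MulAut R)
      rw [map_commutatorElement]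
      simp [commutatorElement_def, hπ1]
  have hwS : π w' ∈ (S : Subgroup Lb) := ⟨w', hS₀ (mem_zpowers w'), rfl⟩
  have hcop : (orderOf (w ^ q)).Coprime (Nat.card (Z ⊓ M : Subgroup G)) :=
    Nat.Coprime.coprime_dvd_left ((orderOf_pow_dvd q).trans (orderOf_dvd_of_pow_eq_one hwq))
      (Nat.Coprime.pow_left k ((Nat.Prime.coprime_iff_not_dvd hq.out).2 hqZ))
  have hwqF : w ^ q ∈ centF c M :=
    ⟨⟨pow_mem hwM q, pow_mem hw.1 q⟩, fun s hs =>
      (h.cent_of_commute hM (pow_mem hw q) (pow_mem hwM q) hcop hwpow hs.1 hs.2).eq.symm⟩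
  have hwK : π w' ^ q ∈ K := by
    refine ⟨pow_mem hwS q, Subgroup.mem_subgroupOf.2 ⟨(⟨w, hw.1⟩ : T) ^ q, hwqF, ?_⟩⟩
    rw [map_pow]; rfl
  refine false_of_central_power hq2 hgen S hKZ inf_le_left hcomm' hwS hwK ?_
  intro v hv hvq
  obtain ⟨k₀, hk₀, hk⟩ := hKmem v hv
  obtain ⟨u, huM, huQ, d, hdM, hd, hdc, hud⟩ := h.centF_split hM hk₀
  have hfd : f ⟨d, hd.1⟩ = (v : MulAut R) := by
    rw [← hk, show k₀ = ⟨u, huQ.1⟩ * ⟨d, hd.1⟩ from Subtype.ext hud, map_mul,
      show f ⟨u, huQ.1⟩ = 1 from (h.autR_eq_one _).2 huQ, one_mul]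
  have hfw : Commute (f ⟨d, hd.1⟩) (f ⟨w, hw.1⟩) := by
    have := hcen k₀ hk₀ ⟨w, hw.1⟩ hwL
    rwa [hk, ← hfd] at this
  have hdw : Commute d w := by
    rw [← commutatorElement_eq_one_iff_commute]
    refine h.two_inf_Q ?_ ((h.autR_eq_one ⁅(⟨d, hd.1⟩ : T), ⟨w, hw.1⟩⁆).1 ?_)
    · exact commutatorElement_def d w ▸
        mul_mem (mul_mem (mul_mem hd hw) (inv_mem hd)) (inv_mem hw)
    · rw [map_commutatorElement]
      exact commutatorElement_eq_one_iff_commute.2 hfw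
  refine h.pow_ne_one hfpf hq.out (mul_mem (inv_mem hd) hw) (mul_mem (inv_mem hdM) hwM) hz hzM
    (fun e => hne ?_) (h.two_inf_Q (pow_mem (mul_mem (inv_mem hd) hw) q)
      ((h.autR_eq_one ((⟨d⁻¹ * w, mul_mem (T.inv_mem hd.1) hw.1⟩ : T) ^ q)).1 ?_))
  · have h2 := (h.commute_of_cent hM hd hdM hdc hz hzM).mul_left e
    rwa [mul_inv_cancel_left] at h2
  · rw [map_pow, show (⟨d⁻¹ * w, mul_mem (T.inv_mem hd.1) hw.1⟩ : T) =
      ⟨d, hd.1⟩⁻¹ * ⟨w, hw.1⟩ from rfl, map_mul, map_inv, hfw.inv_left.mul_pow, inv_pow, hfd,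
      inv_mul_eq_one]
    exact congrArg Subtype.val hvq

variable [Finite Ω]

/-- Commutators of `q`-subgroups, when the fixed involutions form a group of order at least four. -/
theorem comm_of_big (hfpf : FullFpf c y R) (hM : Conf c y Z M) {q k : ℕ} [hq : Fact q.Prime] {w : G}
    (hw : w ∈ two G c y) (hwM : w ∈ M) (hwq : w ^ q ^ k = 1) {z : G} (hz : z ∈ Z) (hzM : z ∈ M)
    (hne : ¬ Commute w z)
    (hbig : ∃ s ∈ invAt G c, s ∈ M ∧ Commute w s ∧
      ∃ t ∈ invAt G c, t ∈ M ∧ Commute w t ∧ s ≠ t)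
    (hsplit : Conf c y Z (M ⊓ Subgroup.centralizer {w}) →
      ∀ g ∈ M ⊓ Subgroup.centralizer {w}, g ∈ stabilizer G c →
        ∃ u, u ∈ M ⊓ Subgroup.centralizer {w} ∧ u ∈ Q c R ∧
          ∃ d, d ∈ M ⊓ Subgroup.centralizer {w} ∧ d ∈ two G c y ∧ g = u * d)
    {S : Subgroup G} (hS : S ≤ M ⊓ stabilizer G c) (hSp : IsPGroup q S) :
    ∀ a ∈ S, ∀ b ∈ S, ⁅a, b⁆ ∈ centF c M := by
  obtain ⟨hne', h4', hMu', hM'⟩ := h.conf_step hfpf hM hw hwM hwq hz hzM hne hbig
  set M' := M ⊓ Subgroup.centralizer {w} with hM'def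
  have hmem : ∀ g : G, g ∈ M' → Commute w g := fun g hg =>
    (Subgroup.mem_centralizer_singleton_iff.1 hg.2).symm
  obtain ⟨s₀, hs₀, hs₀M, hws₀, -⟩ := hbig
  have hq2 : q ≠ 2 := by
    rintro rfl
    have hodd : Odd (orderOf w) :=
      h.odd_two.of_dvd_nat (Subgroup.orderOf_dvd_natCard _ hw)
    exact hne ((orderOf_eq_one_iff.1 (Nat.eq_one_of_dvd_coprimes
      (Nat.Coprime.pow_right k (Nat.coprime_two_right.2 hodd)) dvd_rfl
      (orderOf_dvd_of_pow_eq_one hwq))) ▸ Commute.one_left z)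
  set U : Subgroup G := Q c R ⊓ M' with hU
  -- `q` does not divide the order of the regular part
  have hqU : ¬ q ∣ Nat.card U := by
    intro hd
    haveI : Group.IsNilpotent U := Fitting.isNilpotent_of_le h.isNilpotent_Q inf_le_left
    obtain ⟨P⟩ := (inferInstance : Nonempty (Sylow q U))
    have hPn : (P : Subgroup U).Normal :=
      ((Group.isNilpotent_of_finite_tfae (G := U)).out 0 3 rfl rfl).1 inferInstance q inferInstance P
    have hPc := P.characteristic_of_normal hPn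
    set N : Subgroup G := (P : Subgroup U).map U.subtype with hN
    have hNU : N ≤ U := Subgroup.map_subtype_le _
    have hNn : M' ⊓ stabilizer G c ≤ Subgroup.normalizer (N : Set G) := by
      have hUn : M' ⊓ stabilizer G c ≤ Subgroup.normalizer (U : Set G) :=
        (le_inf (inf_le_right.trans h.le_normalizer_Q)
          (inf_le_left.trans Subgroup.le_normalizer)).trans Subgroup.inf_normalizer_le_normalizer_inf
      refine Subgroup.le_normalizer_iff.2 fun g hg v hv => ?_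
      obtain ⟨v', hv', rfl⟩ := hv
      let φ : U ≃* U := U.normalizerMonoidHom ⟨g, hUn hg⟩
      refine ⟨φ v', ?_, rfl⟩
      exact (Subgroup.characteristic_iff_map_eq.1 hPc φ) ▸ Subgroup.mem_map_of_mem _ hv'
    have hNq : IsPGroup q N := P.isPGroup'.map _
    have hNodd : Odd (Nat.card N) := by
      obtain ⟨n, hn⟩ := IsPGroup.iff_card.1 hNq
      rw [hn]
      exact (hq.out.odd_of_ne_two hq2).pow
    have hfix := h.sect_core M' hne' hMu' h4' c
      (mem_centres (⟨hs₀M, Subgroup.mem_centralizer_singleton_iff.2 hws₀.eq.symm⟩ : s₀ ∈ M') hs₀) N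
      (le_inf (hNU.trans inf_le_right) ((hNU.trans inf_le_left).trans inf_le_left)) hNn hNodd
    have hbot : N = ⊥ := eq_bot_iff.2 fun g hg => Subgroup.mem_bot.2
      (h.two_inf_Q (mem_two_iff.2 ⟨(hNU hg).1.1, hfix g hg y hM'.mem_y⟩) (hNU hg).1)
    have hcard := P.card_eq_multiplicity
    rw [← Subgroup.card_map_of_injective U.subtype_injective (K := (P : Subgroup U)), ← hN, hbot,
      Subgroup.card_bot] at hcard
    exact absurd hcard.symm (Nat.one_lt_pow
      (Nat.pos_iff_ne_zero.1 (hq.out.factorization_pos_of_dvd Nat.card_pos.ne' hd)) hq.out.one_lt).ne'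
  -- the orbit of `y`
  set Y : Subgroup G := M ⊓ stabilizer G c with hY
  let O := {a : Ω // a ∈ centres Ω M ∧ a ≠ c}
  have hsm : ∀ (g : G), g ∈ Y → ∀ a : O, g • (a : Ω) ∈ centres Ω M ∧ g • (a : Ω) ≠ c :=
    fun g hg a => ⟨smul_mem_centres hg.1 a.2.1, fun e => a.2.2
      (smul_left_cancel g (e.trans (mem_stabilizer_iff.1 hg.2).symm))⟩
  letI : MulAction Y O :=
    { smul := fun g a => ⟨(g : G) • (a : Ω), hsm g g.2 a⟩
      one_smul := fun a => Subtype.ext (one_smul G (a : Ω))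
      mul_smul := fun g g' a => Subtype.ext (mul_smul (g : G) (g' : G) (a : Ω)) }
  haveI : MulAction.IsPretransitive Y O := by
    have key : ∀ a : O, ∃ g : Y, g • (⟨y, hM.mem_y, h.ne⟩ : O) = a := fun a => by
      obtain ⟨g, hgM, hgc, hgy⟩ := hM.trans a a.2.1 a.2.2
      exact ⟨⟨g, hgM, hgc⟩, Subtype.ext hgy⟩
    refine ⟨fun a b => ?_⟩
    obtain ⟨g, hg⟩ := key a
    obtain ⟨g', hg'⟩ := key b
    exact ⟨g' * g⁻¹, by rw [← hg, mul_smul, inv_smul_smul, hg']⟩
  have hidx : ((two G c y ⊓ M).subgroupOf Y).index = Nat.card O := by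
    rw [← MulAction.index_stabilizer_of_transitive Y (⟨y, hM.mem_y, h.ne⟩ : O)]
    congr 1
    ext g
    rw [Subgroup.mem_subgroupOf, MulAction.mem_stabilizer_iff, Subtype.ext_iff]
    exact ⟨fun e => (mem_two_iff.1 e.1).2, fun e => ⟨mem_two_iff.2 ⟨g.2.2, e⟩, g.2.1⟩⟩
  have hW : zpowers w ≤ Y := zpowers_le.2 ⟨hwM, hw.1⟩
  letI : MulAction (zpowers w) O :=
    { smul := fun g a => ⟨(g : G) • (a : Ω), hsm g (hW g.2) a⟩
      one_smul := fun a => Subtype.ext (one_smul G (a : Ω))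
      mul_smul := fun g g' a => Subtype.ext (mul_smul (g : G) (g' : G) (a : Ω)) }
  have hwp : IsPGroup q (zpowers w) := fun v => ⟨k, Subtype.ext (by
    obtain ⟨j, hj⟩ := mem_zpowers_iff.1 v.2
    show ((v : G)) ^ q ^ k = 1
    rw [← hj, ← zpow_natCast, ← zpow_mul, mul_comm, zpow_mul, zpow_natCast, hwq, one_zpow])⟩
  have hfixU : Nat.card (MulAction.fixedPoints (zpowers w) O) = Nat.card U := by
    let ψ : U → MulAction.fixedPoints (zpowers w) O := fun u =>
      ⟨⟨(u : G) • y, hsm u ⟨u.2.2.1, u.2.1.1⟩ ⟨y, hM.mem_y, h.ne⟩⟩, fun v => Subtype.ext (by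
        obtain ⟨j, hj⟩ := mem_zpowers_iff.1 v.2
        show (v : G) • (u : G) • y = (u : G) • y
        rw [← hj, smul_smul, ((hmem u u.2.2).zpow_left j).eq, mul_smul]
        congr 1
        exact mem_stabilizer_iff.1 (zpow_mem (mem_stabilizer_iff.2 (mem_two_iff.1 hw).2) j))⟩
    refine (Nat.card_eq_of_bijective ψ ⟨fun u v e => ?_, fun a => ?_⟩).symm
    · have e' : (u : G) • y = (v : G) • y := congrArg Subtype.val (congrArg Subtype.val e)
      have hd : (v : G)⁻¹ * u ∈ two G c y := mem_two_iff.2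
        ⟨mem_stabilizer_iff.1 (mul_mem ((stabilizer G c).inv_mem v.2.1.1) u.2.1.1),
          by rw [mul_smul, e', inv_smul_smul]⟩
      exact Subtype.ext (inv_mul_eq_one.1
        (h.two_inf_Q hd (mul_mem ((Q c R).inv_mem v.2.1) u.2.1))).symm
    · have hwa : w • ((a : O) : Ω) = a := congrArg Subtype.val (a.2 ⟨w, mem_zpowers w⟩)
      obtain ⟨g, hgM, hgc, hgy⟩ := hM'.trans _ (h.mem_centres_of_fixed hfpf hM hw hwM hwq hz hzM hne
        hs₀ hs₀M hws₀ (a : O).2.1 (a : O).2.2 hwa) (a : O).2.2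
      obtain ⟨u, hu, huQ, d, hd, hd2, hud⟩ := hsplit hM' g hgM hgc
      refine ⟨⟨u, huQ, hu⟩, Subtype.ext (Subtype.ext ?_)⟩
      show u • y = _
      rw [← hgy, hud, mul_smul, (mem_two_iff.1 hd2).2]
  have hqI : ¬ q ∣ ((two G c y ⊓ M).subgroupOf Y).index := by
    rw [hidx]
    intro hd
    have hmod := hwp.card_modEq_card_fixedPoints O
    rw [hfixU] at hmod
    exact hqU ((hmod.dvd_iff (dvd_refl q)).1 hd)
  -- so the Sylow subgroup is cyclic
  set D : Subgroup Y := (two G c y ⊓ M).subgroupOf Y with hD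
  obtain ⟨P₁⟩ := (inferInstance : Nonempty (Sylow q D))
  obtain ⟨P₂, hP₂⟩ := (P₁.isPGroup'.map D.subtype).exists_le_sylow
  have hP₂D : (P₂ : Subgroup Y) ≤ D := by
    have hcard : Nat.card (P₂ : Subgroup Y) ≤ Nat.card ((P₁ : Subgroup D).map D.subtype) := by
      rw [Subgroup.card_map_of_injective D.subtype_injective, P₁.card_eq_multiplicity,
        P₂.card_eq_multiplicity, ← Subgroup.index_mul_card D,
        Nat.factorization_mul Subgroup.index_ne_zero_of_finite Nat.card_pos.ne', Finsupp.add_apply,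
        Nat.factorization_eq_zero_of_not_dvd hqI, zero_add]
    rw [← Subgroup.eq_of_le_of_card_ge hP₂ hcard]
    exact Subgroup.map_subtype_le _
  intro a ha b hb
  obtain ⟨P, hP⟩ := (hSp.comap_of_injective Y.subtype Y.subtype_injective).exists_le_sylow
  obtain ⟨g, hg⟩ := MulAction.exists_smul_eq Y P P₂
  have hmem₂ : ∀ v (hv : v ∈ S), g * ⟨v, hS hv⟩ * g⁻¹ ∈ (P₂ : Subgroup Y) := by
    intro v hv
    rw [← hg, Sylow.coe_subgroup_smul, Subgroup.mem_pointwise_smul_iff_inv_smul_mem]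
    simpa [MulAut.smul_def, mul_assoc] using hP (show (⟨v, hS hv⟩ : Y) ∈ S.comap Y.subtype from hv)
  set X : Subgroup G := (P₂ : Subgroup Y).map Y.subtype with hX
  have hXc : IsCyclic X := by
    refine h.isCyclic_of_pGroup hfpf ?_ (P₂.isPGroup'.map _)
    rintro _ ⟨v, hv, rfl⟩
    exact (hP₂D hv).1
  have hab : Commute ((g : G) * a * (g : G)⁻¹) ((g : G) * b * (g : G)⁻¹) := by
    letI := IsCyclic.commGroup (α := X)
    exact congrArg Subtype.val (mul_comm (⟨_, ⟨_, hmem₂ a ha, rfl⟩⟩ : X) ⟨_, ⟨_, hmem₂ b hb, rfl⟩⟩)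
  have h2 := hab.map (MulAut.conj (g : G)⁻¹).toMonoidHom
  have h3 : Commute a b := by simpa [MulAut.conj_apply, mul_assoc] using h2
  rw [commutatorElement_eq_one_iff_commute.2 h3]
  exact one_mem _

/-- At most one fixed involution forces the order of their group. -/
theorem card_of_small (hM : Conf c y Z M) {q k : ℕ} [hq : Fact q.Prime] {w : G}
    (hw : w ∈ two G c y) (hwM : w ∈ M) (hwq : w ^ q ^ k = 1) {z : G} (hz : z ∈ Z) (hzM : z ∈ M)
    (hne : ¬ Commute w z) (hwpow : ∀ v ∈ Z, v ∈ M → Commute (w ^ q) v)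
    (hsmall : ¬ ∃ s ∈ invAt G c, s ∈ M ∧ Commute w s ∧
      ∃ t ∈ invAt G c, t ∈ M ∧ Commute w t ∧ s ≠ t) :
    Nat.card (h.E ⊓ M : Subgroup G) = 2 ^ q := by
  have hqZ := h.not_dvd_Z (M := M) hq.out hw hwq hz hne
  have hodd : Odd (orderOf w) := h.odd_two.of_dvd_nat (Subgroup.orderOf_dvd_natCard _ hw)
  have hq2 : q ≠ 2 := by
    rintro rfl
    exact hne ((orderOf_eq_one_iff.1 (Nat.eq_one_of_dvd_coprimes
      (Nat.Coprime.pow_right k (Nat.coprime_two_right.2 hodd)) dvd_rfl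
      (orderOf_dvd_of_pow_eq_one hwq))) ▸ Commute.one_left z)
  set Y : Subgroup G := M ⊓ stabilizer G c with hY
  set F : Subgroup G := h.E ⊓ M with hF
  have hYF : Y ≤ Subgroup.normalizer (F : Set G) :=
    (le_inf (inf_le_right.trans h.le_normalizer_E) (inf_le_left.trans Subgroup.le_normalizer)).trans
      Subgroup.inf_normalizer_le_normalizer_inf
  let ψ : Y →* MulAut F := F.normalizerMonoidHom.comp (Subgroup.inclusion hYF)
  have hψ : ∀ (g : Y) (f : F), ((ψ g f : F) : G) = (g : G) * f * (g : G)⁻¹ := fun g f => rfl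
  have hψ1 : ∀ g : Y, ψ g = 1 ↔ (g : G) ∈ centF c M := by
    intro g
    constructor
    · refine fun e => ⟨g.2, fun s hs => ?_⟩
      have := congrArg Subtype.val
        (DFunLike.congr_fun e (⟨s, h.mem_E.2 (Or.inr hs.1), hs.2⟩ : F))
      rw [hψ] at this
      exact (mul_inv_eq_iff_eq_mul.1 this).symm
    · refine fun e => MulEquiv.ext fun f => Subtype.ext ?_
      rw [hψ]
      rcases h.mem_E.1 f.2.1 with h1 | h1
      · simp [h1]
      · exact mul_inv_eq_iff_eq_mul.2 (e.2 _ ⟨h1, f.2.2⟩).symm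
  -- the part of `Z` is regular on the involutions of `M` with centre `c`
  obtain ⟨s₁, hs₁, hs₁M, t₁, ht₁, ht₁M, hst₁⟩ := hM.big
  let O := {s : G // s ∈ invAt G c ∧ s ∈ M}
  have hOcard : Nat.card (Z ⊓ M : Subgroup G) = Nat.card O := by
    let φ : (Z ⊓ M : Subgroup G) → O := fun v =>
      ⟨(v : G) * s₁ * (v : G)⁻¹, h.conj_mem_invAt' (h.Z_le v.2.1).1 hs₁,
        mul_mem (mul_mem v.2.2 hs₁M) (inv_mem v.2.2)⟩
    refine Nat.card_eq_of_bijective φ ⟨fun u v e => ?_, fun t => ?_⟩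
    · by_contra hne'
      have e' : (u : G) * s₁ * (u : G)⁻¹ = (v : G) * s₁ * (v : G)⁻¹ := congrArg Subtype.val e
      have hc : Commute ((v : G)⁻¹ * u) s₁ := by
        show (v : G)⁻¹ * u * s₁ = s₁ * ((v : G)⁻¹ * u)
        calc (v : G)⁻¹ * u * s₁ = (v : G)⁻¹ * ((u : G) * s₁ * (u : G)⁻¹) * u := by group
          _ = _ := by rw [e']; group
      exact absurd (h.eq_one_of_commute (mul_mem (inv_mem v.2.1) u.2.1) (fun e1 => hne'
        (Subtype.ext (inv_mul_eq_one.1 e1).symm)) (Or.inr hs₁) hc) (fun e1 => by simpa [e1] using hs₁.1)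
    · obtain ⟨v, hv, hvM, hvs⟩ := hM.ztrans s₁ hs₁ hs₁M t t.2.1 t.2.2
      exact ⟨⟨v, hv, hvM⟩, Subtype.ext hvs⟩
  have hW : zpowers w ≤ Y := zpowers_le.2 ⟨hwM, hw.1⟩
  letI : MulAction (zpowers w) O :=
    { smul := fun g s => ⟨(g : G) * s * (g : G)⁻¹, h.conj_mem_invAt' (hW g.2).2 s.2.1,
        mul_mem (mul_mem (hW g.2).1 s.2.2) (inv_mem (hW g.2).1)⟩
      one_smul := fun s => Subtype.ext (show (1 : G) * s * (1 : G)⁻¹ = s by simp)
      mul_smul := fun g g' s => Subtype.ext (show ((g : G) * g') * s * ((g : G) * g')⁻¹ =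
        (g : G) * ((g' : G) * s * (g' : G)⁻¹) * (g : G)⁻¹ by group) }
  have hwp : IsPGroup q (zpowers w) := fun v => ⟨k, Subtype.ext (by
    obtain ⟨j, hj⟩ := mem_zpowers_iff.1 v.2
    show ((v : G)) ^ q ^ k = 1
    rw [← hj, ← zpow_natCast, ← zpow_mul, mul_comm, zpow_mul, zpow_natCast, hwq, one_zpow])⟩
  obtain ⟨s₀, hs₀⟩ := hwp.nonempty_fixed_point_of_prime_not_dvd_card O (hOcard ▸ hqZ)
  have hws₀ : Commute w (s₀ : G) :=
    mul_inv_eq_iff_eq_mul.1 (congrArg Subtype.val (hs₀ ⟨w, mem_zpowers w⟩))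
  have huniq : ∀ s ∈ invAt G c, s ∈ M → Commute w s → s = s₀ := fun s hs hsM hws => by
    by_contra hcon
    exact hsmall ⟨s, hs, hsM, hws, s₀, s₀.2.1, s₀.2.2, hws₀, hcon⟩
  -- the Frobenius group induced on `F`
  let w' : Y := ⟨w, hwM, hw.1⟩
  set a := ψ w' with ha
  have ha_ne : a ≠ 1 := fun e => hne (h.commute_of_cent hM hw hwM
    (fun s hs hsM => (((hψ1 w').1 e).2 s ⟨hs, hsM⟩).symm) hz hzM)
  have hcop : (orderOf (w ^ q)).Coprime (Nat.card (Z ⊓ M : Subgroup G)) :=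
    Nat.Coprime.coprime_dvd_left ((orderOf_pow_dvd q).trans (orderOf_dvd_of_pow_eq_one hwq))
      (Nat.Coprime.pow_left k ((Nat.Prime.coprime_iff_not_dvd hq.out).2 hqZ))
  have hao : orderOf a = q := by
    refine orderOf_eq_prime ?_ ha_ne
    rw [ha, ← map_pow]
    exact (hψ1 _).2 ⟨⟨pow_mem hwM q, pow_mem hw.1 q⟩, fun s hs =>
      (h.cent_of_commute hM (pow_mem hw q) (pow_mem hwM q) hcop hwpow hs.1 hs.2).eq.symm⟩
  set Z' : Subgroup Y := (Z ⊓ M).subgroupOf Y with hZ'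
  set U : Subgroup (MulAut F) := Z'.map ψ with hU
  have hZ'Y : Z ⊓ M ≤ Y := le_inf inf_le_right (fun v hv => (h.Z_le hv.1).1)
  have hUdvd : Nat.card U ∣ Nat.card (Z ⊓ M : Subgroup G) := by
    rw [← Nat.card_congr (Subgroup.subgroupOfEquivOfLe hZ'Y).toEquiv]
    exact Subgroup.card_map_dvd Z' ψ
  have haU : a ∈ Subgroup.normalizer (U : Set (MulAut F)) := by
    refine Subgroup.le_normalizer_map ψ ⟨w', ?_, rfl⟩
    refine Subgroup.mem_normalizer_iff.2 fun v => ?_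
    have hwn : w ∈ Subgroup.normalizer ((Z ⊓ M : Subgroup G) : Set G) :=
      Subgroup.inf_normalizer_le_normalizer_inf ⟨h.Z_normal hw, Subgroup.le_normalizer hwM⟩
    exact Subgroup.mem_normalizer_iff.1 hwn (v : G)
  have hUfix : ∀ f : F, (∀ u ∈ U, u f = f) → f = 1 := by
    intro f hf
    obtain ⟨v, hv, hvM, hvs⟩ := hM.ztrans s₁ hs₁ hs₁M t₁ ht₁ ht₁M
    have hv1 : v ≠ 1 := fun e => hst₁ (by simpa [e] using hvs)
    have := congrArg Subtype.val
      (hf _ ⟨⟨v, hvM, (h.Z_le hv).1⟩, Subgroup.mem_subgroupOf.2 ⟨hv, hvM⟩, rfl⟩)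
    rw [hψ] at this
    exact Subtype.ext (h.eq_one_of_commute hv hv1 f.2.1 (mul_inv_eq_iff_eq_mul.1 this))
  have hfpf : ∀ u ∈ U, a * u = u * a → u = 1 := by
    rintro _ ⟨v, hv, rfl⟩ hc
    obtain ⟨hvZ, hvM⟩ := Subgroup.mem_subgroupOf.1 hv
    have h1 : (v * w' * v⁻¹ * w'⁻¹ : Y) ∈ ψ.ker := by
      rw [MonoidHom.mem_ker, map_mul, map_mul, map_mul, map_inv, map_inv, ← hc]
      simp [ha]
    have hwv' : w * (v : G)⁻¹ * w⁻¹ ∈ Z :=
      (Subgroup.mem_normalizer_iff.1 (h.Z_normal hw) _).1 (inv_mem hvZ)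
    have hmemZ : (v : G) * w * (v : G)⁻¹ * w⁻¹ ∈ Z := by
      rw [show (v : G) * w * (v : G)⁻¹ * w⁻¹ = v * (w * (v : G)⁻¹ * w⁻¹) by group]
      exact mul_mem hvZ hwv'
    have hvw : Commute (v : G) w := by
      by_contra hcon
      refine absurd (h.eq_one_of_commute hmemZ (fun e => hcon ?_) (Or.inr hs₁)
        ((((hψ1 _).1 h1).2 s₁ ⟨hs₁, hs₁M⟩).symm)) (fun e => by simpa [e] using hs₁.1)
      exact mul_inv_eq_iff_eq_mul.1 (mul_inv_eq_one.1 e)
    have hv1 : (v : G) = 1 := by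
      by_contra hcon
      have hw' : Commute w ((v : G) * s₀ * (v : G)⁻¹) :=
        (hvw.symm.mul_right hws₀).mul_right hvw.symm.inv_right
      have e := huniq _ (h.conj_mem_invAt' v.2.2 s₀.2.1)
        (mul_mem (mul_mem hvM s₀.2.2) (inv_mem hvM)) hw'
      exact absurd (h.eq_one_of_commute hvZ hcon (Or.inr s₀.2.1) (mul_inv_eq_iff_eq_mul.1 e))
        (fun e1 => by simpa [e1] using s₀.2.1.1)
    rw [show v = 1 from Subtype.ext hv1, map_one]
  have hexp : ∀ f : F, f ^ 2 = 1 := fun f => Subtype.ext (h.E_sq f.2.1)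
  have hcomm : ∀ f g : F, f * g = g * f := fun f g => by
    haveI := h.isMulCommutative_E
    refine Subtype.ext ?_
    exact congrArg (Subtype.val : h.E → G)
      (IsMulCommutative.is_comm.comm (⟨f, f.2.1⟩ : h.E) ⟨g, g.2.1⟩)
  have : Fact (Nat.Prime 2) := ⟨Nat.prime_two⟩
  have hF2 : IsPGroup 2 F := fun f => ⟨1, by rw [pow_one]; exact hexp f⟩
  haveI : Group.IsNilpotent F := hF2.isNilpotent
  obtain ⟨n, hn⟩ := IsPGroup.iff_card.1 hF2
  have hcopF : (Nat.card F).Coprime (Nat.card U * q) := by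
    rw [hn]
    refine Nat.Coprime.pow_left _ (Nat.coprime_two_left.2 (Nat.odd_mul.2 ⟨?_, hq.out.odd_of_ne_two hq2⟩))
    exact h.odd_two.of_dvd_nat (hUdvd.trans
      (Subgroup.card_dvd_of_le (inf_le_left.trans h.Z_le)))
  have hcard := card_eq_pow_of_frobenius U a hao haU (fun e => hqZ (e.trans hUdvd)) hUfix hfpf hcopF
  have hfixed : Nat.card {f : F // a f = f} = 2 := by
    have hne1 : (s₀ : G) ≠ 1 := fun e => by simpa [e] using s₀.2.1.1
    have hset : {f : F | a f = f} = {1, ⟨s₀, h.mem_E.2 (Or.inr s₀.2.1), s₀.2.2⟩} := by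
      ext f
      simp only [Set.mem_setOf_eq, Set.mem_insert_iff, Set.mem_singleton_iff]
      constructor
      · intro hf
        rcases h.mem_E.1 f.2.1 with h1 | h1
        · exact Or.inl (Subtype.ext h1)
        · refine Or.inr (Subtype.ext (huniq _ h1 f.2.2 ?_))
          have := congrArg Subtype.val hf
          rw [hψ] at this
          exact mul_inv_eq_iff_eq_mul.1 this
      · rintro (rfl | rfl)
        · exact map_one a
        · apply Subtype.ext
          rw [hψ]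
          exact mul_inv_eq_iff_eq_mul.2 hws₀.eq
    show Nat.card ↥{f : F | a f = f} = 2
    rw [Nat.card_coe_set_eq, hset, Set.ncard_pair fun e => hne1 (congrArg Subtype.val e).symm]
  rw [hfixed] at hcard
  exact hcard

/-- Commutators of `q`-subgroups, when at most one involution is fixed. -/
theorem comm_of_small (hM : Conf c y Z M) {q k : ℕ} [hq : Fact q.Prime] {w : G}
    (hw : w ∈ two G c y) (hwM : w ∈ M) (hwq : w ^ q ^ k = 1) {z : G} (hz : z ∈ Z) (hzM : z ∈ M)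
    (hne : ¬ Commute w z) (hwpow : ∀ v ∈ Z, v ∈ M → Commute (w ^ q) v)
    (hsmall : ¬ ∃ s ∈ invAt G c, s ∈ M ∧ Commute w s ∧
      ∃ t ∈ invAt G c, t ∈ M ∧ Commute w t ∧ s ≠ t)
    {S : Subgroup G} (hS : S ≤ M ⊓ stabilizer G c) (hSp : IsPGroup q S) :
    ∀ a ∈ S, ∀ b ∈ S, ⁅a, b⁆ ∈ centF c M := by
  have hodd : Odd (orderOf w) := h.odd_two.of_dvd_nat (Subgroup.orderOf_dvd_natCard _ hw)
  have hq2 : q ≠ 2 := by
    rintro rfl
    exact hne ((orderOf_eq_one_iff.1 (Nat.eq_one_of_dvd_coprimes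
      (Nat.Coprime.pow_right k (Nat.coprime_two_right.2 hodd)) dvd_rfl
      (orderOf_dvd_of_pow_eq_one hwq))) ▸ Commute.one_left z)
  set Y : Subgroup G := M ⊓ stabilizer G c with hY
  set F : Subgroup G := h.E ⊓ M with hF
  have hYF : Y ≤ Subgroup.normalizer (F : Set G) :=
    (le_inf (inf_le_right.trans h.le_normalizer_E) (inf_le_left.trans Subgroup.le_normalizer)).trans
      Subgroup.inf_normalizer_le_normalizer_inf
  let ψ : Y →* MulAut F := F.normalizerMonoidHom.comp (Subgroup.inclusion hYF)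
  have hψ : ∀ (g : Y) (f : F), ((ψ g f : F) : G) = (g : G) * f * (g : G)⁻¹ := fun g f => rfl
  have hψ1 : ∀ g : Y, ψ g = 1 ↔ (g : G) ∈ centF c M := by
    intro g
    constructor
    · refine fun e => ⟨g.2, fun s hs => ?_⟩
      have := congrArg Subtype.val
        (DFunLike.congr_fun e (⟨s, h.mem_E.2 (Or.inr hs.1), hs.2⟩ : F))
      rw [hψ] at this
      exact (mul_inv_eq_iff_eq_mul.1 this).symm
    · refine fun e => MulEquiv.ext fun f => Subtype.ext ?_
      rw [hψ]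
      rcases h.mem_E.1 f.2.1 with h1 | h1
      · simp [h1]
      · exact mul_inv_eq_iff_eq_mul.2 (e.2 _ ⟨h1, f.2.2⟩).symm
  have hexp : ∀ f : F, f ^ 2 = 1 := fun f => Subtype.ext (h.E_sq f.2.1)
  have hcomm : ∀ f g : F, f * g = g * f := fun f g => by
    haveI := h.isMulCommutative_E
    refine Subtype.ext ?_
    exact congrArg (Subtype.val : h.E → G)
      (IsMulCommutative.is_comm.comm (⟨f, f.2.1⟩ : h.E) ⟨g, g.2.1⟩)
  have hcard : Nat.card F = 2 ^ q := h.card_of_small hM hw hwM hwq hz hzM hne hwpow hsmall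
  intro u hu v hv
  have := comm_of_card_two_pow hexp hcomm hq2 hcard ((S.subgroupOf Y).map ψ)
    ((hSp.comap_of_injective Y.subtype Y.subtype_injective).map ψ)
    ⟨_, Subgroup.mem_map_of_mem ψ (show (⟨u, hS hu⟩ : Y) ∈ S.subgroupOf Y from hu)⟩
    ⟨_, Subgroup.mem_map_of_mem ψ (show (⟨v, hS hv⟩ : Y) ∈ S.subgroupOf Y from hv)⟩
  refine (hψ1 ⁅(⟨u, hS hu⟩ : Y), ⟨v, hS hv⟩⁆).1 ?_
  rw [map_commutatorElement, commutatorElement_eq_one_iff_mul_comm]
  exact congrArg Subtype.val this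

/-- The splitting in every configuration. -/
theorem split_aux (hfpf : FullFpf c y R) : ∀ (n : ℕ) (M : Subgroup G), Nat.card M ≤ n → Conf c y Z M → ∀ g ∈ M,
    g ∈ stabilizer G c → ∃ u, u ∈ M ∧ u ∈ Q c R ∧ ∃ d, d ∈ M ∧ d ∈ two G c y ∧ g = u * d := by
  intro n
  induction n with
  | zero => exact fun M hn => absurd hn (Nat.not_le.2 Nat.card_pos)
  | succ n ih =>
    intro M hn hM g hgM hgc
    refine h.split_of_central hM (fun d hdL hd v hv hvM => ?_) hgM hgc
    by_contra hne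
    set D : Subgroup G := zClosure c Z M ⊓ two G c y with hD
    -- a Sylow subgroup moving `Z`
    obtain ⟨q, hq, S, hS⟩ : ∃ q : ℕ, q.Prime ∧ ∃ S : Sylow q D,
        ¬ (S : Subgroup D).map D.subtype ≤ Subgroup.centralizer ((Z ⊓ M : Subgroup G) : Set G) := by
      by_contra hcon
      push Not at hcon
      have hle : D ≤ Subgroup.centralizer ((Z ⊓ M : Subgroup G) : Set G) :=
        Coprime.le_of_forall_sylow_le fun p hp S => hcon p hp S
      exact hne (hle ⟨hdL, hd⟩ v ⟨hv, hvM⟩).symm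
    have : Fact q.Prime := ⟨hq⟩
    obtain ⟨s, hs, hsne⟩ := SetLike.not_le_iff_exists.1 hS
    have hsD : s ∈ D := Subgroup.map_subtype_le _ hs
    obtain ⟨k, hk⟩ := (S.isPGroup'.map D.subtype) ⟨s, hs⟩
    have hsk : s ^ q ^ k = 1 := congrArg Subtype.val hk
    classical
    have hex : ∃ i, ∀ v ∈ Z, v ∈ M → Commute (s ^ q ^ i) v :=
      ⟨k, fun v _ _ => by rw [hsk]; exact Commute.one_left v⟩
    set i := Nat.find hex with hi
    have hi0 : i ≠ 0 := fun e => by
      refine hsne fun v hv => ?_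
      have := Nat.find_spec hex v hv.1 hv.2
      rw [← hi, e, pow_zero, pow_one] at this
      exact this.eq.symm
    obtain ⟨j, hj⟩ := Nat.exists_eq_succ_of_ne_zero hi0
    have hnot := Nat.find_min hex (show j < Nat.find hex by rw [← hi, hj]; exact Nat.lt_succ_self j)
    push Not at hnot
    obtain ⟨z, hz, hzM, hwz⟩ := hnot
    set w := s ^ q ^ j with hwdef
    have hw : w ∈ two G c y := pow_mem hsD.2 _
    have hwL : w ∈ zClosure c Z M := pow_mem hsD.1 _
    have hwq : w ^ q ^ k = 1 := by rw [hwdef, ← pow_mul, mul_comm, pow_mul, hsk, one_pow]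
    have hwpow : ∀ v ∈ Z, v ∈ M → Commute (w ^ q) v := fun v hv hvM => by
      have := Nat.find_spec hex v hv hvM
      rw [← hi, hj] at this
      rwa [hwdef, ← pow_mul, ← pow_succ]
    have hwM : w ∈ M := (h.zClosure_le hwL).1
    refine h.false_of_moving hfpf hM hwL hw hwq hz hzM hwz hwpow fun S₁ hS₁ hS₁p => ?_
    by_cases hbig : ∃ s ∈ invAt G c, s ∈ M ∧ Commute w s ∧
        ∃ t ∈ invAt G c, t ∈ M ∧ Commute w t ∧ s ≠ t
    · refine h.comm_of_big hfpf hM hw hwM hwq hz hzM hwz hbig (fun hM' => ?_) hS₁ hS₁p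
      refine ih _ ?_ hM'
      have hlt : Nat.card (M ⊓ Subgroup.centralizer {w} : Subgroup G) < Nat.card M :=
        Set.ncard_lt_ncard ⟨inf_le_left, fun hle => hwz
          (Subgroup.mem_centralizer_singleton_iff.1 (hle hzM).2).symm⟩ (Set.toFinite _)
      omega
    · exact h.comm_of_small hM hw hwM hwq hz hzM hwz hwpow hbig hS₁ hS₁p

/-- The point stabiliser is the product of `C(R)` and the two point stabiliser, when the latter acts
on `R` without fixed points. -/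
theorem split_of_full (hfpf : FullFpf c y R) {g : G} (hg : g ∈ stabilizer G c) :
    ∃ u, u ∈ Q c R ∧ ∃ d, d ∈ two G c y ∧ g = u * d := by
  obtain ⟨u, -, hu, d, -, hd, e⟩ := h.split_aux hfpf _ ⊤ le_rfl h.conf_top g (mem_top g) hg
  exact ⟨u, hu, d, hd, e⟩

end Setting

end CfsgLib.CoreSplit
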